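import Cfsg.Agent.Invol.GlaubermanAut
import Cfsg.Agent.Invol.IndexTwo

/-!
# Consequences of Brauer-Suzuki and Z* that also use the odd order theorem, given as a hypothesis
-/

set_option autoImplicit false

namespace Cfsg.Agent.Invol

open Cfsg Subgroup

universe u

/-- The odd order theorem, as a hypothesis. -/
def OddSolvable : Prop :=
  ∀ (H : Type u) [Group H] [Finite H], Odd (Nat.card H) → Group.IsSolvable H

theorem glauberman_solvable {G : Type u} [Group G] [Finite G] (hodd : OddSolvable.{u})
    (hO : pPrimeCore 2 G = ⊥) (S : Sylow 2 G) (C : Subgroup (MulAut G))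
    (hC : ∀ φ ∈ C, ∀ s ∈ S, φ s = s) : Group.IsSolvable C := by
  have h := glauberman_commutator_odd hO S C hC
  have hK : Group.IsSolvable (commutator C) :=
    hodd _ (Nat.odd_iff.2 (Nat.two_dvd_ne_zero.1 h))
  have hker : (Abelianization.of (G := C)).ker ≤ (commutator C).subtype.range := by
    rw [Subgroup.range_subtype]
    exact le_of_eq (Abelianization.ker_of C)
  exact Group.isSolvable_of_ker_le_range (commutator C).subtype Abelianization.of hker

theorem four_group_of_simple {G : Type u} [Group G] [Finite G] [IsSimpleGroup G]
    (hG : ¬ IsCyclic G) (hodd : OddSolvable.{u}) : ∃ E : Subgroup G, IsKleinFour E := by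
  have : Fact (Nat.Prime 2) := ⟨Nat.prime_two⟩
  have hab : ¬ ∀ a b : G, a * b = b * a := fun h => by
    let _ : CommGroup G := { (inferInstance : Group G) with mul_comm := h }
    exact hG inferInstance
  rcases Nat.even_or_odd (Nat.card G) with heven | ho
  · by_contra hne
    push Not at hne
    obtain ⟨z, hz, hcen⟩ := exists_central_mod_core heven hne
    rcases (inferInstance : (pPrimeCore 2 G).Normal).eq_bot_or_eq_top with e | e
    · have hzc : z ∈ center G := Subgroup.mem_center_iff.2 fun g => by
        have h1 := hcen g
        rw [e, Subgroup.mem_bot, mul_inv_eq_one, mul_inv_eq_iff_eq_mul] at h1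
        exact h1.symm
      rcases (inferInstance : (center G).Normal).eq_bot_or_eq_top with e' | e'
      · rw [e', Subgroup.mem_bot] at hzc; exact inv_ne_one hz hzc
      · exact hab fun a b => ((Subgroup.mem_center_iff.1 (e' ▸ mem_top a)) b).symm
    · have h1 := Cores.not_dvd_card_pPrimeCore (p := 2) (G := G)
      rw [e, Subgroup.card_top] at h1
      exact h1 (even_iff_two_dvd.1 heven)
  · have hs := hodd G ho
    exact absurd ((IsSimpleGroup.comm_iff_isSolvable (G := G)).2 hs) hab

end Cfsg.Agent.Invol
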