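import Cfsg.Agent.Invol.Counting
import Mathlib.GroupTheory.Transfer
import Mathlib.GroupTheory.SpecificGroups.KleinFour
import Mathlib.GroupTheory.Complement

/-!
# Klein four Sylow 2-subgroups: fusion of involutions
-/

set_option autoImplicit false

namespace Cfsg.Agent.Invol

open Subgroup
open scoped Pointwise

variable {G : Type*} [Group G] [Finite G]

omit [Finite G] in
theorem klein_comm (P : Sylow 2 G) (hP : IsKleinFour (P : Subgroup G)) :
    IsMulCommutative (P : Subgroup G) := by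
  refine ⟨⟨fun a b => ?_⟩⟩
  have hexp : Monoid.exponent (P : Subgroup G) = 2 := hP.exponent_two
  exact mul_comm_of_exponent_two hexp a b

theorem klein_fusion (P : Sylow 2 G) (hP : IsKleinFour (P : Subgroup G)) {a b : G} (ha : a ∈ P)
    (hb : b ∈ P) (h : IsConj a b) : ∃ n ∈ normalizer (P : Set G), n * a * n⁻¹ = b := by
  have : Fact (Nat.Prime 2) := ⟨Nat.prime_two⟩
  have := klein_comm P hP
  obtain ⟨g, rfl⟩ := isConj_iff.1 h
  obtain ⟨n, hn, he⟩ := Sylow.conj_eq_normalizer_conj_of_mem P a g⁻¹ ha (by rwa [inv_inv])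
  refine ⟨n⁻¹, inv_mem hn, ?_⟩
  rw [inv_inv] at he ⊢
  exact he.symm

theorem klein_ne_one (P : Sylow 2 G) {a : G} (ha : a ∈ P) (hP : IsKleinFour (P : Subgroup G))
    (h1 : a ≠ 1) : orderOf a = 2 := by
  have h2 : (⟨a, ha⟩ : (P : Subgroup G)) ^ 2 = 1 := by
    have h3 := Monoid.pow_exponent_eq_one (⟨a, ha⟩ : (P : Subgroup G))
    rwa [hP.exponent_two] at h3
  refine orderOf_eq_prime ?_ h1
  exact (congrArg Subtype.val h2 :)

/-- A normalizer element moving one involution of a Klein four Sylow moves every involution,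
and permutes them transitively. -/
theorem klein_transitive (P : Sylow 2 G) (hP : IsKleinFour (P : Subgroup G)) {a n : G} (ha : a ∈ P)
    (ha1 : a ≠ 1) (hn : n ∈ normalizer (P : Set G)) (hmove : n * a * n⁻¹ ≠ a) :
    ∀ b ∈ P, b ≠ 1 → IsConj a b := by
  classical
  have : Fact (Nat.Prime 2) := ⟨Nat.prime_two⟩
  set a₁ := n * a * n⁻¹ with ha₁def
  set a₂ := n * a₁ * n⁻¹ with ha₂def
  have hN : ∀ x ∈ P, n * x * n⁻¹ ∈ P := fun x hx => (Subgroup.mem_normalizer_iff.1 hn x).1 hx
  have ha₁ : a₁ ∈ P := hN a ha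
  have ha₂ : a₂ ∈ P := hN a₁ ha₁
  have h21 : a₂ ≠ a₁ := fun e => hmove (mul_left_cancel (mul_right_cancel e))
  have h20 : a₂ ≠ a := by
    intro e
    -- `n` would act as a transposition; its 2-part lies in `P`
    have hsq : Commute (n ^ 2) a := by
      rw [commute_iff_conj, pow_two]
      calc n * n * a * (n * n)⁻¹ = n * (n * a * n⁻¹) * n⁻¹ := by group
        _ = a := e
    obtain ⟨k, m, hm, hord⟩ := Nat.exists_eq_two_pow_mul_odd (orderOf_pos n).ne'
    have hP2 : n ^ m ∈ P := by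
      have hp : IsPGroup 2 (zpowers (n ^ m)) := by
        refine IsPGroup.of_card (n := k) ?_
        rw [Nat.card_zpowers, orderOf_pow, hord, Nat.gcd_eq_right (Dvd.intro_left _ rfl),
          Nat.mul_div_cancel _ hm.pos]
      have h1 := P.is_maximal' (hp.to_sup_of_normal_right' P.2
        (zpowers_le.2 (pow_mem hn m))) le_sup_right
      show n ^ m ∈ (P : Subgroup G)
      rw [← h1]
      exact Subgroup.mem_sup_left (mem_zpowers _)
    have hcomm : Commute (n ^ m) a := by
      have := (klein_comm P hP).is_comm.comm ⟨n ^ m, hP2⟩ ⟨a, ha⟩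
      exact (congrArg Subtype.val this :)
    obtain ⟨j, hj⟩ := hm
    have : Commute n a := by
      have e2 : n = (n ^ 2) ^ (-(j : ℤ)) * n ^ m := by
        rw [← zpow_natCast n 2, ← zpow_mul, ← zpow_natCast n m, ← zpow_add, hj]
        push_cast
        ring_nf
        exact (zpow_one n).symm
      rw [e2]
      exact (hsq.zpow_left _).mul_left hcomm
    exact hmove (commute_iff_conj.1 this)
  intro b hb hb1
  by_cases hba : b = a
  · exact hba ▸ IsConj.refl a
  by_cases hba₁ : b = a₁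
  · exact hba₁ ▸ isConj_conj n a
  by_cases hba₂ : b = a₂
  · exact hba₂ ▸ (isConj_conj n a).trans (isConj_conj n a₁)
  exfalso
  have ha₁1 : a₁ ≠ 1 := fun e => ha1 (conj_eq_one_iff.1 e)
  have ha₂1 : a₂ ≠ 1 := fun e => ha₁1 (conj_eq_one_iff.1 e)
  have hsub : ({1, a, a₁, a₂, b} : Finset G) ⊆ ((P : Subgroup G) : Set G).toFinite.toFinset := by
    intro x hx
    simp only [Finset.mem_insert, Finset.mem_singleton] at hx
    rcases hx with rfl | rfl | rfl | rfl | rfl <;> simp [ha, ha₁, ha₂, hb, one_mem]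
  have h4 := Finset.card_le_card hsub
  rw [← Set.ncard_eq_toFinset_card, ← Nat.card_coe_set_eq] at h4
  have h5 : ({1, a, a₁, a₂, b} : Finset G).card = 5 := by
    rw [Finset.card_insert_of_notMem, Finset.card_insert_of_notMem, Finset.card_insert_of_notMem,
      Finset.card_pair (Ne.symm hba₂)]
    · simp [h21.symm, Ne.symm hba₁]
    · simp [hmove.symm, h20.symm, Ne.symm hba]
    · simp [ha1.symm, ha₁1.symm, ha₂1.symm, hb1.symm]
  rw [h5] at h4
  have : Nat.card (P : Subgroup G) = 4 := hP.card_four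
  change 5 ≤ Nat.card (P : Subgroup G) at h4
  omega

/-- Either all involutions are conjugate, or distinct involutions of `P` are non-conjugate and
the normalizer centralizes `P`. -/
theorem klein_dichotomy (P : Sylow 2 G) (hP : IsKleinFour (P : Subgroup G)) :
    (∀ a b : G, orderOf a = 2 → orderOf b = 2 → IsConj a b) ∨
      (normalizer (P : Set G) ≤ centralizer ((P : Subgroup G) : Set G) ∧
        ∀ a ∈ P, ∀ b ∈ P, IsConj a b → a = b) := by
  by_cases h : ∃ a ∈ P, a ≠ 1 ∧ ∃ n ∈ normalizer (P : Set G), n * a * n⁻¹ ≠ a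
  · left
    have : Fact (Nat.Prime 2) := ⟨Nat.prime_two⟩
    obtain ⟨a, ha, ha1, n, hn, hmove⟩ := h
    have key : ∀ x : G, orderOf x = 2 → IsConj a x := by
      intro x hx
      obtain ⟨Q, hxQ, -⟩ := exists_sylow_of_commute hx hx (Commute.refl x)
      obtain ⟨g, rfl⟩ := MulAction.exists_smul_eq G P Q
      have hxm : g⁻¹ * x * g ∈ (P : Subgroup G) := by
        have h1 : x ∈ MulAut.conj g • (P : Subgroup G) := hxQ
        rw [Subgroup.mem_pointwise_smul_iff_inv_smul_mem] at h1
        simpa [mul_assoc] using h1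
      refine (klein_transitive P hP ha ha1 hn hmove _ hxm fun e => inv_ne_one hx ?_).trans
        (isConj_iff.2 ⟨g, by group⟩)
      have e' : g * (g⁻¹ * x * g) * g⁻¹ = g * 1 * g⁻¹ := congrArg (fun y => g * y * g⁻¹) e
      simpa [mul_assoc] using e'
    exact fun x y hx hy => (key x hx).symm.trans (key y hy)
  · right
    push Not at h
    refine ⟨fun n hn => ?_, fun a ha b hb hc => ?_⟩
    · rw [Subgroup.mem_centralizer_iff]
      intro a ha
      by_cases ha1 : a = 1
      · simp [ha1]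
      · exact (mul_inv_eq_iff_eq_mul.1 (h a ha ha1 n hn)).symm
    · by_cases ha1 : a = 1
      · subst ha1; exact (isConj_one_right.1 hc).symm
      · obtain ⟨n, hn, he⟩ := klein_fusion P hP ha hb hc
        exact (h a ha ha1 n hn).symm.trans he

theorem card_class_three_of_fusion (P : Sylow 2 G) (hP : IsKleinFour (P : Subgroup G))
    (hf : ∀ a ∈ P, ∀ b ∈ P, IsConj a b → a = b) :
    Nat.card {C : ConjClasses G // ∃ t : G, orderOf t = 2 ∧ ConjClasses.mk t = C} = 3 := by
  classical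
  have : Fact (Nat.Prime 2) := ⟨Nat.prime_two⟩
  have h3 : Nat.card {a : (P : Subgroup G) // a ≠ 1} = 3 := by
    have : Fintype (P : Subgroup G) := Fintype.ofFinite _
    rw [Nat.card_eq_fintype_card, Fintype.card_subtype_compl, Fintype.card_subtype_eq,
      ← Nat.card_eq_fintype_card, show Nat.card (P : Subgroup G) = 4 from hP.card_four]
  rw [← h3]
  refine (Nat.card_eq_of_bijective
    (fun a : {a : (P : Subgroup G) // a ≠ 1} =>
      (⟨ConjClasses.mk (a.1 : G), a.1, klein_ne_one P a.1.2 hP (fun e => a.2 (Subtype.ext e)),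
        rfl⟩ : {C : ConjClasses G // ∃ t : G, orderOf t = 2 ∧ ConjClasses.mk t = C}))
    ⟨fun a b e => ?_, fun C => ?_⟩).symm
  · have e' := ConjClasses.mk_eq_mk_iff_isConj.1 (congrArg Subtype.val e)
    exact Subtype.ext (Subtype.ext (hf _ a.1.2 _ b.1.2 e'))
  · obtain ⟨C, x, hx, rfl⟩ := C
    obtain ⟨Q, hxQ, -⟩ := exists_sylow_of_commute hx hx (Commute.refl x)
    obtain ⟨g, rfl⟩ := MulAction.exists_smul_eq G P Q
    have h1 : x ∈ MulAut.conj g • (P : Subgroup G) := hxQ
    rw [Subgroup.mem_pointwise_smul_iff_inv_smul_mem] at h1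
    have hxm : g⁻¹ * x * g ∈ (P : Subgroup G) := by simpa [mul_assoc] using h1
    refine ⟨⟨⟨_, hxm⟩, fun e => inv_ne_one hx ?_⟩, Subtype.ext ?_⟩
    · have e1 : g⁻¹ * x * g = 1 := congrArg Subtype.val e
      calc x = g * (g⁻¹ * x * g) * g⁻¹ := by group
        _ = 1 := by rw [e1]; group
    · exact ConjClasses.mk_eq_mk_iff_isConj.2 (isConj_iff.2 ⟨g, by group⟩)

theorem card_class_one (P : Sylow 2 G) (hP : IsKleinFour (P : Subgroup G))
    (hall : ∀ a b : G, orderOf a = 2 → orderOf b = 2 → IsConj a b) :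
    Nat.card {C : ConjClasses G // ∃ t : G, orderOf t = 2 ∧ ConjClasses.mk t = C} = 1 := by
  have he : Even (Nat.card G) := by
    refine even_iff_two_dvd.2 (dvd_trans ?_ (Subgroup.card_subgroup_dvd_card (P : Subgroup G)))
    rw [show Nat.card (P : Subgroup G) = 4 from hP.card_four]; norm_num
  obtain ⟨t, ht⟩ := exists_orderOf_two he
  rw [Nat.card_eq_one_iff_exists]
  refine ⟨⟨ConjClasses.mk t, t, ht, rfl⟩, ?_⟩
  rintro ⟨C, x, hx, rfl⟩
  exact Subtype.ext (ConjClasses.mk_eq_mk_iff_isConj.2 (hall x t hx ht))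

theorem klein_three_iff (P : Sylow 2 G) (hP : IsKleinFour (P : Subgroup G)) :
    Nat.card {C : ConjClasses G // ∃ t : G, orderOf t = 2 ∧ ConjClasses.mk t = C} = 3 ↔
      ∃ N : Subgroup G, N.Normal ∧ IsComplement' N (P : Subgroup G) := by
  have : Fact (Nat.Prime 2) := ⟨Nat.prime_two⟩
  constructor
  · intro h3
    rcases klein_dichotomy P hP with hall | ⟨hN, -⟩
    · rw [card_class_one P hP hall] at h3; omega
    · exact ⟨_, MonoidHom.normal_ker _, MonoidHom.ker_transferSylow_isComplement' P hN⟩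
  · rintro ⟨N, hN, hc⟩
    refine card_class_three_of_fusion P hP fun a ha b hb hab => ?_
    obtain ⟨g, rfl⟩ := isConj_iff.1 hab
    obtain ⟨⟨n, q⟩, hnq, -⟩ := hc.existsUnique g
    simp only at hnq
    have hcomm : (q : G) * a * (q : G)⁻¹ = a := commute_iff_conj.1
      (congrArg Subtype.val ((klein_comm P hP).is_comm.comm q ⟨a, ha⟩) :)
    have h1 : g * a * g⁻¹ * a⁻¹ ∈ N := by
      rw [← hnq, show (n : G) * q * a * ((n : G) * q)⁻¹ * a⁻¹
        = n * (q * a * (q : G)⁻¹) * (n : G)⁻¹ * a⁻¹ by group, hcomm,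
        show (n : G) * a * (n : G)⁻¹ * a⁻¹ = n * (a * (n : G)⁻¹ * a⁻¹) by group]
      exact mul_mem n.2 (hN.conj_mem _ (inv_mem n.2) a)
    have h2 : g * a * g⁻¹ * a⁻¹ ∈ (P : Subgroup G) := mul_mem hb (inv_mem ha)
    have h3 : g * a * g⁻¹ * a⁻¹ = 1 :=
      (Subgroup.disjoint_def.1 hc.disjoint) h1 h2
    exact (mul_inv_eq_one.1 h3).symm

end Cfsg.Agent.Invol
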