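import Cfsg.Prelude.Def_Involutions
import Cfsg.Agent.Invol.Counting
import Cfsg.Agent.Fusion.Basic
import Mathlib.GroupTheory.Sylow

/-!
# Strongly embedded subgroups: basic equivalences
-/

set_option autoImplicit false

namespace Cfsg.Agent.Invol

open Subgroup
open scoped Pointwise

variable {G : Type*} [Group G] {H : Subgroup G} {g t : G}

theorem mem_map_conj {a : G} :
    a ∈ H.map (MulAut.conj g).toMonoidHom ↔ g⁻¹ * a * g ∈ H := by
  rw [Subgroup.mem_map_equiv]; simp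

/-- A strongly embedded subgroup contains every element conjugating one of its nontrivial
2-elements into itself. -/
theorem IsStronglyEmbedded.mem_of_conj [Finite G] (hH : Cfsg.IsStronglyEmbedded H)
    (ht : orderOf t = 2) (htH : t ∈ H) (hg : g⁻¹ * t * g ∈ H) : g ∈ H := by
  by_contra hgH
  have h := hH.2.2 g hgH
  have hm : t ∈ H ⊓ H.map (MulAut.conj g).toMonoidHom := ⟨htH, mem_map_conj.2 hg⟩
  have h1 := orderOf_dvd_natCard (⟨t, hm⟩ : ↥(H ⊓ H.map (MulAut.conj g).toMonoidHom))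
  rw [Subgroup.orderOf_mk, ht] at h1
  exact absurd (even_iff_two_dvd.2 h1) (Nat.not_even_iff_odd.2 h)

theorem IsStronglyEmbedded.centralizer_le [Finite G] (hH : Cfsg.IsStronglyEmbedded H)
    (ht : orderOf t = 2) (htH : t ∈ H) : centralizer ({t} : Set G) ≤ H := fun c hc =>
  IsStronglyEmbedded.mem_of_conj hH ht htH (by
    rw [mul_assoc, ← (mem_centralizer_singleton.1 hc).eq, inv_mul_cancel_left]; exact htH)

theorem IsStronglyEmbedded.normalizer_le [Finite G] (hH : Cfsg.IsStronglyEmbedded H)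
    {X : Subgroup G} (hX : X ≤ H) (he : Even (Nat.card X)) :
    normalizer (X : Set G) ≤ H := fun g hg => by
  obtain ⟨⟨t, htX⟩, ht⟩ := exists_orderOf_two he
  rw [Subgroup.orderOf_mk] at ht
  refine IsStronglyEmbedded.mem_of_conj hH ht (hX htX) (hX ?_)
  exact (Subgroup.mem_normalizer_iff''.1 hg t).1 htX

theorem isStronglyEmbedded_of_forall [Finite G] (hne : H ≠ ⊤) (he : Even (Nat.card H))
    (h : ∀ g t : G, orderOf t = 2 → t ∈ H → g⁻¹ * t * g ∈ H → g ∈ H) :
    Cfsg.IsStronglyEmbedded H := by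
  refine ⟨hne, he, fun g hg => ?_⟩
  by_contra hodd
  rw [Nat.not_odd_iff_even] at hodd
  obtain ⟨⟨t, htm⟩, ht⟩ := exists_orderOf_two hodd
  rw [Subgroup.orderOf_mk] at ht
  exact hg (h g t ht htm.1 (mem_map_conj.1 htm.2))

theorem isStronglyEmbedded_iff_fusion [Finite G] (hne : H ≠ ⊤) (he : Even (Nat.card H)) :
    Cfsg.IsStronglyEmbedded H ↔
      (∀ t ∈ H, orderOf t = 2 → centralizer ({t} : Set G) ≤ H) ∧
      (∀ t ∈ H, ∀ s ∈ H, orderOf t = 2 → orderOf s = 2 → IsConj t s →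
        ∃ h ∈ H, h * t * h⁻¹ = s) := by
  refine ⟨fun hH => ⟨fun t htH ht => IsStronglyEmbedded.centralizer_le hH ht htH,
    fun t htH s hsH ht hs hc => ?_⟩, fun ⟨hC, hF⟩ => ?_⟩
  · obtain ⟨g, rfl⟩ := isConj_iff.1 hc
    refine ⟨g, ?_, rfl⟩
    refine IsStronglyEmbedded.mem_of_conj hH hs hsH ?_
    simpa [mul_assoc] using htH
  · refine isStronglyEmbedded_of_forall hne he fun g t ht htH hgt => ?_
    have hs : orderOf (g⁻¹ * t * g) = 2 := by
      have := orderOf_conj g⁻¹ t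
      rwa [inv_inv, ht] at this
    obtain ⟨h, hh, he⟩ := hF _ hgt t htH hs ht (isConj_iff.2 ⟨g, by group⟩)
    have hc : g * h⁻¹ ∈ centralizer ({t} : Set G) := by
      rw [mem_centralizer_singleton, commute_iff_conj]
      nth_rewrite 1 [← he]
      group
    simpa using mul_mem (hC t htH ht hc) hh

theorem isStronglyEmbedded_iff_fix [Finite G] (hne : H ≠ ⊤) (he : Even (Nat.card H)) :
    Cfsg.IsStronglyEmbedded H ↔
      ∀ t ∈ H, orderOf t = 2 → Nat.card {c : G ⧸ H // t • c = c} = 1 := by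
  have key : ∀ t g : G, t • (g : G ⧸ H) = g ↔ g⁻¹ * t * g ∈ H := fun t g => by
    rw [MulAction.Quotient.smul_coe, eq_comm, QuotientGroup.eq, smul_eq_mul, mul_assoc]
  refine ⟨fun hH t htH ht => ?_, fun h => ?_⟩
  · rw [Nat.card_eq_one_iff_exists]
    refine ⟨⟨((1 : G) : G ⧸ H), (key t 1).2 (by simpa using htH)⟩, ?_⟩
    rintro ⟨c, hc⟩
    induction c using QuotientGroup.induction_on with
    | _ g =>
      apply Subtype.ext
      show (g : G ⧸ H) = ((1 : G) : G ⧸ H)
      rw [eq_comm, QuotientGroup.eq]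
      simpa using IsStronglyEmbedded.mem_of_conj hH ht htH ((key t g).1 hc)
  · refine isStronglyEmbedded_of_forall hne he fun g t ht htH hgt => ?_
    obtain ⟨hsub, -⟩ := Nat.card_eq_one_iff_unique.1 (h t htH ht)
    have := congrArg Subtype.val
      (hsub.elim ⟨((1 : G) : G ⧸ H), (key t 1).2 (by simpa using htH)⟩
        ⟨(g : G ⧸ H), (key t g).2 hgt⟩)
    simpa using QuotientGroup.eq.1 this

theorem isStronglyEmbedded_of_normalizers [Finite G] (hne : H ≠ ⊤) (P : Sylow 2 ↥H)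
    (hP : (P : Subgroup ↥H) ≠ ⊥)
    (hN : ∀ X : Subgroup ↥H, X ≤ (P : Subgroup ↥H) → X ≠ ⊥ →
      normalizer ((X.map H.subtype : Subgroup G) : Set G) ≤ H) :
    Cfsg.IsStronglyEmbedded H := by
  have : Fact (Nat.Prime 2) := ⟨Nat.prime_two⟩
  have heH : Even (Nat.card H) := by
    obtain ⟨k, hk⟩ := P.isPGroup'.exists_card_eq
    have h1 : 1 < Nat.card (P : Subgroup ↥H) := Subgroup.one_lt_card_iff_ne_bot _ |>.2 hP
    have h2 : 2 ∣ Nat.card (P : Subgroup ↥H) := by
      rw [hk] at h1 ⊢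
      exact dvd_pow_self 2 (by rintro rfl; simp at h1)
    exact even_iff_two_dvd.2 (h2.trans (Subgroup.card_subgroup_dvd_card _))
  refine isStronglyEmbedded_of_forall hne heH fun g t ht htH hgt => ?_
  by_contra hg
  set D := H ⊓ H.map (MulAut.conj g).toMonoidHom
  have htD : t ∈ D := ⟨htH, mem_map_conj.2 hgt⟩
  obtain ⟨Q₀, hQ₀⟩ : ∃ Q : Sylow 2 D, (⟨t, htD⟩ : D) ∈ Q := by
    obtain ⟨Q, hQ⟩ := (IsPGroup.of_card (p := 2) (n := 1) (G := zpowers (⟨t, htD⟩ : D))
      (by rw [Nat.card_zpowers, pow_one, ← Subgroup.orderOf_coe]; exact ht)).exists_le_sylow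
    exact ⟨Q, hQ (mem_zpowers _)⟩
  set Q : Subgroup G := (Q₀ : Subgroup D).map D.subtype with hQdef
  have hQD : Q ≤ D := Subgroup.map_subtype_le _
  have hQp : IsPGroup 2 Q := Q₀.isPGroup'.map _
  have hQne : Q ≠ ⊥ := fun e => inv_ne_one ht (by
    have : t ∈ Q := ⟨_, hQ₀, rfl⟩
    rwa [e, Subgroup.mem_bot] at this)
  -- a conjugate of a 2-subgroup of `H` lies in `P`
  have hconj : ∀ U : Subgroup G, U ≤ H → IsPGroup 2 U → ∃ h ∈ H,
      Fusion.cj h U ≤ (P : Subgroup ↥H).map H.subtype := by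
    intro U hU hUp
    obtain ⟨S, hS⟩ := (hUp.of_equiv (Subgroup.subgroupOfEquivOfLe hU).symm).exists_le_sylow
    obtain ⟨h, hh⟩ := MulAction.exists_smul_eq ↥H S P
    refine ⟨h, h.2, fun a ha => ?_⟩
    rw [Fusion.mem_cj] at ha
    refine ⟨⟨a, ?_⟩, ?_, rfl⟩
    · have := mul_mem (mul_mem h.2 (hU ha)) (inv_mem h.2)
      simpa [mul_assoc] using this
    · rw [← hh]
      show _ ∈ MulAut.conj h • (S : Subgroup ↥H)
      rw [Subgroup.mem_pointwise_smul_iff_inv_smul_mem]
      apply hS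
      rw [Subgroup.mem_subgroupOf]
      simpa [mul_assoc] using ha
  have hnorm : ∀ U : Subgroup G, U ≤ H → IsPGroup 2 U → U ≠ ⊥ → normalizer (U : Set G) ≤ H := by
    intro U hU hUp hUne
    obtain ⟨h, hh, hle⟩ := hconj U hU hUp
    have e1 : ((Fusion.cj h U).subgroupOf H).map H.subtype = Fusion.cj h U :=
      Subgroup.map_subgroupOf_eq_of_le (hle.trans (Subgroup.map_subtype_le _))
    have h2 := hN ((Fusion.cj h U).subgroupOf H) (fun a ha => by
        obtain ⟨b, hb, hbe⟩ := hle ha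
        rwa [show a = b from Subtype.ext hbe.symm])
      (fun e => hUne (by
        have : Fusion.cj h U = ⊥ := by rw [← e1, e, Subgroup.map_bot]
        exact (Subgroup.map_eq_bot_iff_of_injective U (MulAut.conj h).injective).1 this))
    rw [e1, ← Fusion.cj_normalizer] at h2
    intro a ha
    have h3 := h2 (show h * a * h⁻¹ ∈ _ by rw [Fusion.mem_cj]; simpa [mul_assoc] using ha)
    simpa [mul_assoc] using mul_mem (mul_mem (inv_mem hh) h3) hh
  have hNQ : normalizer (Q : Set G) ≤ D := by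
    refine le_inf (hnorm Q (hQD.trans inf_le_left) hQp hQne) ?_
    have hU : Fusion.cj g⁻¹ Q ≤ H := fun a ha => by
      rw [Fusion.mem_cj] at ha
      have h1 := mem_map_conj.1 (hQD ha).2
      simpa [mul_assoc] using h1
    have h1 := hnorm _ hU (hQp.map _) (fun e => hQne
      ((Subgroup.map_eq_bot_iff_of_injective Q (MulAut.conj g⁻¹).injective).1 e))
    intro a ha
    rw [mem_map_conj]
    apply h1
    rw [← Fusion.cj_normalizer, Fusion.mem_cj]
    simpa [mul_assoc] using ha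
  -- `Q` is a Sylow 2-subgroup of `G`
  obtain ⟨S, hS⟩ := hQp.exists_le_sylow
  have hQS : Q = S := by
    refine hS.eq_of_not_lt fun hlt => ?_
    have h1 := Fusion.lt_normalizer_inf S.2 hlt
    set R := (S : Subgroup G) ⊓ normalizer (Q : Set G) with hR
    have hRD : R ≤ D := inf_le_right.trans hNQ
    have h2 : R.subgroupOf D = (Q₀ : Subgroup D) := Q₀.is_maximal'
      ((S.2.to_le inf_le_left).of_equiv (Subgroup.subgroupOfEquivOfLe hRD).symm)
      (fun a ha => h1.le ⟨a, ha, rfl⟩)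
    exact h1.ne (by rw [hQdef, ← h2, Subgroup.map_subgroupOf_eq_of_le hRD])
  have hSH : (S : Subgroup G) ≤ H := hQS ▸ hQD.trans inf_le_left
  have hSH' : Fusion.cj g⁻¹ (S : Subgroup G) ≤ H := fun a ha => by
    rw [Fusion.mem_cj, ← hQS] at ha
    simpa [mul_assoc] using mem_map_conj.1 (hQD ha).2
  obtain ⟨h, hh⟩ := MulAction.exists_smul_eq ↥H ((g⁻¹ • S).subtype (Fusion.coe_smul_sylow g⁻¹ S ▸ hSH'))
    (S.subtype hSH)
  simp_rw [Sylow.smul_subtype, Subgroup.smul_def, smul_smul] at hh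
  have hmem := Sylow.smul_eq_iff_mem_normalizer.mp (Sylow.subtype_injective hh)
  have h3 := hnorm (S : Subgroup G) hSH S.2 (hQS ▸ hQne) hmem
  exact hg (by simpa using mul_mem (inv_mem h3) h.2)

theorem isStronglyEmbedded_iff_normalizers [Finite G] (hne : H ≠ ⊤) (P : Sylow 2 ↥H)
    (hP : (P : Subgroup ↥H) ≠ ⊥) :
    Cfsg.IsStronglyEmbedded H ↔ (∀ X : Subgroup ↥H, X ≤ (P : Subgroup ↥H) → X ≠ ⊥ →
      normalizer ((X.map H.subtype : Subgroup G) : Set G) ≤ H) := by
  refine ⟨fun hH X hX hXne => IsStronglyEmbedded.normalizer_le hH (Subgroup.map_subtype_le _) ?_,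
    isStronglyEmbedded_of_normalizers hne P hP⟩
  have : Fact (Nat.Prime 2) := ⟨Nat.prime_two⟩
  rw [Subgroup.card_subtype]
  obtain ⟨k, hk⟩ := (P.isPGroup'.to_le hX).exists_card_eq
  have h1 : 1 < Nat.card X := (Subgroup.one_lt_card_iff_ne_bot _).2 hXne
  rw [hk] at h1 ⊢
  exact even_two.pow_of_ne_zero (by rintro rfl; simp at h1)

end Cfsg.Agent.Invol
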