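import Cfsg.Agent.Invol.Counting
import Mathlib.GroupTheory.SchurZassenhaus
import Mathlib.GroupTheory.QuotientGroup.Basic
import Mathlib.GroupTheory.GroupAction.Quotient
import Mathlib.GroupTheory.Subgroup.Simple
import Mathlib.Data.Fintype.Perm
import Mathlib.SetTheory.Cardinal.Finite
import Mathlib.Data.Fintype.Lattice
import Mathlib.GroupTheory.IndexNormal

/-!
# The Brauer-Fowler theorems
-/

set_option autoImplicit false

namespace Cfsg.Agent.Invol

open Subgroup

universe u

variable {G : Type*} [Group G] [Finite G]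

theorem nInvol_ge_class {t : G} (ht : orderOf t = 2) :
    Nat.card G ≤ nInvol G * Nat.card (centralizer ({t} : Set G)) := by
  rw [← card_isConj_mul t]
  refine Nat.mul_le_mul_right _ ?_
  exact Nat.card_le_card_of_injective (fun u => ⟨u.1, (orderOf_eq_of_isConj u.2).symm.trans ht⟩)
    fun a b h => Subtype.ext (congrArg Subtype.val h :)

theorem card_lt_cube_of_not_isConj {s t : G} (hs : orderOf s = 2) (ht : orderOf t = 2)
    (hnc : ¬ IsConj s t)
    (hmax : ∀ u : G, orderOf u = 2 → Nat.card (centralizer ({u} : Set G)) ≤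
      Nat.card (centralizer ({t} : Set G))) :
    Nat.card G < Nat.card (centralizer ({t} : Set G)) ^ 3 := by
  classical
  have : Fintype G := Fintype.ofFinite G
  set c := Nat.card (centralizer ({t} : Set G)) with hc
  set A := {u : G // IsConj s u}
  set I := {z : G // orderOf z = 2 ∧ Commute z t}
  have hex : ∀ u : A, ∃ z : I, u.1 ∈ centralizer ({z.1} : Set G) := fun u => by
    obtain ⟨z, hz, hzu, hzt⟩ := exists_common_of_not_isConj
      ((orderOf_eq_of_isConj u.2).symm.trans hs) ht (fun h => hnc (u.2.trans h))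
    exact ⟨⟨z, hz, hzt⟩, mem_centralizer_singleton.2 hzu.symm⟩
  choose f hf using hex
  have hinj : Function.Injective (fun u : A =>
      (⟨f u, ⟨u.1, hf u⟩⟩ : Σ z : I, centralizer ({z.1} : Set G))) := fun a b h =>
    Subtype.ext (congrArg (fun w : Σ z : I, centralizer ({z.1} : Set G) => (w.2 : G)) h :)
  have h1 : Nat.card A ≤ Nat.card I * c := by
    refine (Nat.card_le_card_of_injective _ hinj).trans ?_
    rw [Nat.card_sigma, Nat.card_eq_fintype_card (α := I), ← Finset.card_univ, ← smul_eq_mul]
    exact Finset.sum_le_card_nsmul _ _ _ fun z _ => hmax z.1 z.2.1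
  have h2 : Nat.card I + 1 ≤ c := by
    have h3 := pairCount_add_two_le ht
    have h4 : pairCount t + 1 = Nat.card I := pairCount_add_one ht
    omega
  have hpos : 0 < c := Nat.card_pos
  calc Nat.card G = Nat.card A * Nat.card (centralizer ({s} : Set G)) := (card_isConj_mul s).symm
    _ ≤ Nat.card I * c * c := Nat.mul_le_mul h1 (hmax s hs)
    _ < c * c * c := by gcongr; omega
    _ = c ^ 3 := by ring

theorem exists_max_proper (h : 1 < Nat.card G) :
    ∃ H : Subgroup G, H ≠ ⊤ ∧ ∀ K : Subgroup G, K ≠ ⊤ → Nat.card K ≤ Nat.card H := by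
  have : Nonempty {H : Subgroup G // H ≠ ⊤} := ⟨⟨⊥, fun e => by
    have h1 := congrArg (fun K : Subgroup G => Nat.card K) e
    simp only [Subgroup.card_bot, Subgroup.card_top] at h1
    omega⟩⟩
  obtain ⟨⟨H, hH⟩, hmax⟩ := Finite.exists_max fun H : {H : Subgroup G // H ≠ ⊤} => Nat.card H.1
  exact ⟨H, hH, fun K hK => hmax ⟨K, hK⟩⟩

theorem centralizer_ne_top_of_real {x : G} (hx : x ≠ 1) (hx2 : orderOf x ≠ 2)
    (h : IsConj x x⁻¹) : centralizer ({x} : Set G) ≠ ⊤ := fun htop => by
  obtain ⟨c, hc⟩ := isConj_iff.1 h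
  have hcen : Commute c x := mem_centralizer_singleton.1 (htop ▸ Subgroup.mem_top c)
  rw [commute_iff_conj.1 hcen] at hc
  exact hx2 (orderOf_eq_two (mul_eq_one_iff_eq_inv.2 hc) hx)

theorem exists_large_proper (G : Type u) [Group G] [Finite G] (heven : Even (Nat.card G))
    (hgt : 2 < Nat.card G) : ∃ H : Subgroup G, H ≠ ⊤ ∧ Nat.card G < Nat.card H ^ 3 := by
  suffices ∀ n, ∀ (G : Type u) [Group G] [Finite G], Nat.card G = n → Even n → 2 < n →
      ∃ H : Subgroup G, H ≠ ⊤ ∧ Nat.card G < Nat.card H ^ 3 from this _ G rfl heven hgt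
  intro n
  induction n using Nat.strong_induction_on with
  | _ n ih =>
  intro G _ _ hn he hg
  subst hn
  by_cases hz : ∃ z : G, orderOf z = 2 ∧ z ∈ center G
  · obtain ⟨z, hz2, hzc⟩ := hz
    have hN : (zpowers z).Normal := by
      refine ⟨fun a ha g => ?_⟩
      have hac : a ∈ center G := (zpowers_le.2 hzc) ha
      rwa [Subgroup.mem_center_iff.1 hac g, mul_inv_cancel_right]
    have hcardN : Nat.card (zpowers z) = 2 := by rw [Nat.card_zpowers, hz2]
    have hmul := Subgroup.index_mul_card (zpowers z)
    rw [hcardN] at hmul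
    set m := (zpowers z).index with hm
    rcases Nat.even_or_odd m with hme | hmo
    · by_cases hm2 : m = 2
      · refine ⟨zpowers z, fun e => ?_, by rw [hcardN, ← hmul, hm2]; norm_num⟩
        rw [e, Subgroup.index_top] at hm
        omega
      · obtain ⟨k, hk⟩ := hme
        obtain ⟨H, hHt, hH⟩ := ih m (by omega) (G ⧸ zpowers z) (Subgroup.index_eq_card _).symm
          ⟨k, hk⟩ (by omega)
        have hsurj := QuotientGroup.mk'_surjective (zpowers z)
        refine ⟨H.comap (QuotientGroup.mk' (zpowers z)), fun e => hHt (Subgroup.comap_injective hsurj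
          (e.trans (Subgroup.comap_top _).symm)), ?_⟩
        have h1 := Subgroup.index_mul_card (H.comap (QuotientGroup.mk' (zpowers z)))
        rw [Subgroup.index_comap_of_surjective _ hsurj] at h1
        have h2 := Subgroup.index_mul_card H
        rw [← Subgroup.index_eq_card, ← hm] at h2 hH
        have hpos : 0 < H.index := Nat.pos_of_ne_zero Subgroup.index_ne_zero_of_finite
        have h3 : Nat.card (H.comap (QuotientGroup.mk' (zpowers z))) = 2 * Nat.card H := by
          apply Nat.eq_of_mul_eq_mul_left hpos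
          rw [h1, ← hmul, ← h2]; ring
        rw [h3, ← hmul, mul_pow]
        omega
    · obtain ⟨K, hK⟩ := Subgroup.exists_right_complement'_of_coprime (N := zpowers z) (by
        rw [hcardN, ← hm]
        exact Nat.coprime_two_left.2 hmo)
      have h1 := hK.card_mul
      rw [hcardN, ← hmul] at h1
      have hKm : Nat.card K = m := by omega
      refine ⟨K, fun e => ?_, ?_⟩
      · rw [e, Subgroup.card_top] at hKm
        omega
      · rw [hKm, ← hmul]
        obtain ⟨k, hk⟩ := hmo
        have : 2 * 2 ≤ m * m := Nat.mul_le_mul (by omega) (by omega)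
        nlinarith
  push Not at hz
  have hcz : ∀ u : G, orderOf u = 2 → centralizer ({u} : Set G) ≠ ⊤ := fun u hu h =>
    hz u hu (centralizer_singleton_eq_top_iff.1 h)
  obtain ⟨t₀, ht₀⟩ := exists_orderOf_two he
  have : Nonempty {u : G // orderOf u = 2} := ⟨⟨t₀, ht₀⟩⟩
  obtain ⟨⟨t, ht⟩, hmax⟩ := Finite.exists_max fun u : {u : G // orderOf u = 2} =>
    Nat.card (centralizer ({u.1} : Set G))
  by_cases hone : ∀ u : G, orderOf u = 2 → IsConj u t
  · obtain ⟨H, hH, hM⟩ := exists_max_proper (G := G) (by omega)
    refine ⟨H, hH, ?_⟩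
    set M := Nat.card H with hMdef
    set c := Nat.card (centralizer ({t} : Set G)) with hcdef
    set n := nInvol G
    have hnc : n * c = Nat.card G := by
      rw [← card_isConj_mul t]
      congr 1
      exact Nat.card_congr (Equiv.subtypeEquivRight fun u =>
        ⟨fun h => (hone u h).symm, fun h => (orderOf_eq_of_isConj h).symm.trans ht⟩)
    have hcM : c ≤ M := hM _ (hcz t ht)
    have hsq := nInvol_sq_le (G := G) (M := M) (fun x hx => hM _ (hcz x hx)) (M' := M)
      (fun x hx hx2 => by
        by_cases hr : IsConj x x⁻¹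
        · exact (pairCount_le x).trans (hM _ (centralizer_ne_top_of_real hx hx2 hr))
        · simp [pairCount_eq_zero hr])
    have hMpos : 0 < M := Nat.card_pos
    have hcpos : 0 < c := Nat.card_pos
    have hn1 : n ≤ Nat.card G - 1 := by
      have : n + 1 ≤ n * c := by
        have : 2 ≤ c := by
          have hmem : t ∈ centralizer ({t} : Set G) := mem_centralizer_singleton.2 (Commute.refl t)
          have := orderOf_dvd_natCard (⟨t, hmem⟩ : centralizer ({t} : Set G))
          rw [Subgroup.orderOf_mk, ht] at this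
          exact Nat.le_of_dvd hcpos this
        have : n * 2 ≤ n * c := Nat.mul_le_mul_left n this
        have : 0 < n := nInvol_pos he
        omega
      omega
    have key : n * M + (Nat.card G - 1 - n) * M = (Nat.card G - 1) * M := by
      rw [← Nat.add_mul]; congr 1; omega
    have h2 : (Nat.card G - 1) * M + M = Nat.card G * M := by
      rw [← Nat.succ_mul]; congr 1; omega
    change n * n + 2 * n ≤ n + n * M + (Nat.card G - 1 - n) * M at hsq
    have hn0 : 0 < n := nInvol_pos he
    have h3 : n * n < Nat.card G * M := by omega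
    have h4 : Nat.card G * Nat.card G < Nat.card G * (M * (c * c)) := by
      calc Nat.card G * Nat.card G = n * n * (c * c) := by rw [← hnc]; ring
        _ < Nat.card G * M * (c * c) := Nat.mul_lt_mul_of_pos_right h3 (Nat.mul_pos hcpos hcpos)
        _ = Nat.card G * (M * (c * c)) := by ring
    calc Nat.card G < M * (c * c) := Nat.lt_of_mul_lt_mul_left h4
      _ ≤ M * (M * M) := Nat.mul_le_mul_left _ (Nat.mul_le_mul hcM hcM)
      _ = M ^ 3 := by ring
  · push Not at hone
    obtain ⟨s, hs, hst⟩ := hone
    exact ⟨_, hcz t ht, card_lt_cube_of_not_isConj hs ht hst fun u hu => hmax ⟨u, hu⟩⟩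

theorem index_bound (heven : Even (Nat.card G)) (hZ : Odd (Nat.card (center G))) :
    ∃ H : Subgroup G, H ≠ ⊤ ∧ (H.index = 2 ∨
      2 * H.index * nInvol G ^ 2 < Nat.card G * (Nat.card G + nInvol G)) := by
  classical
  by_cases h2 : ∃ H : Subgroup G, H.index = 2
  · obtain ⟨H, hH⟩ := h2
    refine ⟨H, fun e => ?_, Or.inl hH⟩
    rw [e, Subgroup.index_top] at hH
    omega
  have hg2 : 2 ≤ Nat.card G := Nat.le_of_dvd Nat.card_pos heven.two_dvd
  obtain ⟨H, hH, hM⟩ := exists_max_proper (G := G) (by omega)
  refine ⟨H, hH, Or.inr ?_⟩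
  set M := Nat.card H
  set n := nInvol G
  have hcz : ∀ u : G, orderOf u = 2 → centralizer ({u} : Set G) ≠ ⊤ := fun u hu h => by
    have hmem := centralizer_singleton_eq_top_iff.1 h
    have h1 := orderOf_dvd_natCard (⟨u, hmem⟩ : center G)
    rw [Subgroup.orderOf_mk, hu] at h1
    exact absurd (even_iff_two_dvd.2 h1) (Nat.not_even_iff_odd.2 hZ)
  have hR : ∀ x : G, x ≠ 1 → orderOf x ≠ 2 → pairCount x ≤ M / 2 := by
    intro x hx hx2
    by_cases hr : IsConj x x⁻¹
    swap
    · simp [pairCount_eq_zero hr]
    refine (pairCount_le x).trans ((Nat.le_div_iff_mul_le two_pos).2 ?_)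
    have hne : x ≠ x⁻¹ := fun e => hx2 (orderOf_eq_two (mul_eq_one_iff_eq_inv.2 e) hx)
    let K : Subgroup G :=
      { carrier := {g | g * x * g⁻¹ = x ∨ g * x * g⁻¹ = x⁻¹}
        one_mem' := Or.inl (by simp)
        mul_mem' := fun {a b} ha hb => by
          have e : a * b * x * (a * b)⁻¹ = a * (b * x * b⁻¹) * a⁻¹ := by group
          have e' : a * x⁻¹ * a⁻¹ = (a * x * a⁻¹)⁻¹ := by group
          simp only [Set.mem_ofPred_eq] at ha hb ⊢
          rw [e]
          rcases hb with h | h <;> rw [h]
          · exact ha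
          · rw [e']; rcases ha with k | k <;> rw [k] <;> simp
        inv_mem' := fun {a} ha => by
          simp only [Set.mem_ofPred_eq, inv_inv] at ha ⊢
          rcases ha with h | h
          · exact Or.inl (by nth_rewrite 1 [← h]; group)
          · refine Or.inr ?_
            have h' : a * x⁻¹ * a⁻¹ = x := by
              rw [show a * x⁻¹ * a⁻¹ = (a * x * a⁻¹)⁻¹ by group, h, inv_inv]
            nth_rewrite 1 [← h']; group }
    have hcard : Nat.card K = Nat.card (centralizer ({x} : Set G)) +
        Nat.card (centralizer ({x} : Set G)) := by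
      nth_rewrite 2 [← card_inverting hr]
      rw [show Nat.card (centralizer ({x} : Set G)) = Nat.card {g : G // g * x * g⁻¹ = x} from
        Nat.card_congr (Equiv.subtypeEquivRight fun g => by
          rw [mem_centralizer_singleton, commute_iff_conj])]
      rw [← Nat.card_sum]
      refine Nat.card_congr (subtypeOrEquiv _ _ ?_)
      rw [Pi.disjoint_iff]
      intro g
      rw [Prop.disjoint_iff]
      exact fun hcon => hne (hcon.1.symm.trans hcon.2)
    have hK : K ≠ ⊤ := fun e => h2 ⟨centralizer ({x} : Set G), by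
      have h3 := Subgroup.index_mul_card (centralizer ({x} : Set G))
      rw [e, Subgroup.card_top] at hcard
      rw [hcard] at h3
      have : 0 < Nat.card (centralizer ({x} : Set G)) := Nat.card_pos
      apply Nat.eq_of_mul_eq_mul_right this
      omega⟩
    have := hM K hK
    omega
  have hsq := nInvol_sq_le (G := G) (M := M) (fun x hx => hM _ (hcz x hx)) hR
  have hMpos : 0 < M := Nat.card_pos
  have hnpos : 0 < n := nInvol_pos heven
  have hn1 : n + 1 ≤ Nat.card G := by
    have h1 := pairCount_one G
    have : Fintype G := Fintype.ofFinite G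
    show nInvol G + 1 ≤ Nat.card G
    rw [nInvol, Nat.card_eq_fintype_card, Nat.card_eq_fintype_card]
    exact Fintype.card_subtype_lt (p := fun t : G => orderOf t = 2) (x := (1 : G)) (by simp)
  have hidx : H.index * M = Nat.card G := Subgroup.index_mul_card H
  have h3 : 2 * (n * n) + 2 * n ≤ (Nat.card G - 1 + n) * M := by
    change n * n + 2 * n ≤ n + n * M + (Nat.card G - 1 - n) * (M / 2) at hsq
    have e1 : (Nat.card G - 1 - n) * (M / 2) * 2 ≤ (Nat.card G - 1 - n) * M := by
      rw [mul_assoc]; exact Nat.mul_le_mul_left _ (Nat.div_mul_le_self M 2)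
    have e2 : n * M + n * M + (Nat.card G - 1 - n) * M = (Nat.card G - 1 + n) * M := by
      rw [← Nat.add_mul, ← Nat.add_mul]; congr 1; omega
    omega
  calc 2 * H.index * n ^ 2 < H.index * (2 * (n * n) + 2 * n) := by
        have hpos : 0 < H.index := Nat.pos_of_ne_zero Subgroup.index_ne_zero_of_finite
        have : 0 < H.index * (2 * n) := Nat.mul_pos hpos (by omega)
        rw [Nat.mul_add, show 2 * H.index * n ^ 2 = H.index * (2 * (n * n)) by ring]
        omega
    _ ≤ H.index * ((Nat.card G - 1 + n) * M) := Nat.mul_le_mul_left _ h3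
    _ = Nat.card G * (Nat.card G - 1 + n) := by rw [← hidx]; ring
    _ ≤ Nat.card G * (Nat.card G + n) := Nat.mul_le_mul_left _ (by omega)

omit [Finite G] in
theorem toPermHom_injective_of_simple [IsSimpleGroup G] {H : Subgroup G} (hH : H ≠ ⊤) :
    Function.Injective (MulAction.toPermHom G (G ⧸ H)) := by
  rw [← MonoidHom.ker_eq_bot_iff, ← Subgroup.normalCore_eq_ker]
  exact (H.normalCore_normal.eq_bot_or_eq_top).resolve_right fun e =>
    hH (top_le_iff.1 (e ▸ H.normalCore_le))

theorem card_dvd_factorial_index [IsSimpleGroup G] {H : Subgroup G} (hH : H ≠ ⊤) :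
    Nat.card G ∣ Nat.factorial H.index := by
  have := Subgroup.card_dvd_of_injective _ (toPermHom_injective_of_simple hH)
  rwa [Nat.card_perm, ← Subgroup.index_eq_card] at this

theorem center_eq_bot_of_simple [IsSimpleGroup G] (hne : ¬ (Nat.card G).Prime) :
    center G = ⊥ := by
  refine (Subgroup.Normal.eq_bot_or_eq_top inferInstance).resolve_right fun h => hne ?_
  have hc : ∀ a b : G, a * b = b * a := fun a b =>
    (Subgroup.mem_center_iff.1 (h ▸ Subgroup.mem_top b) a)
  let _ : CommGroup G := { (inferInstance : Group G) with mul_comm := hc }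
  exact IsSimpleGroup.prime_card

end Cfsg.Agent.Invol
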