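import Cfsg.Agent.Invol.RankOneQuot
import Mathlib.GroupTheory.SemidirectProduct
import Mathlib.GroupTheory.Transfer

/-!
# Glauberman's theorem on automorphisms centralising a Sylow 2-subgroup

For `G` with trivial odd core and `C` the automorphisms fixing a Sylow 2-subgroup pointwise, the
commutator subgroup of `C` has odd order.
-/

set_option autoImplicit false

namespace Cfsg.Agent.Invol

open Cfsg Subgroup
open scoped commutatorElement

universe u

variable {G : Type u} [Group G]

theorem exists_conj_mem_sylow {X : Type*} [Group X] [Finite X] (K : Subgroup X) (P : Sylow 2 X)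
    (hP : (P : Subgroup X) ≤ K) (E : Subgroup X) (hE : IsPGroup 2 E) (hEK : E ≤ K) :
    ∃ k ∈ K, ∀ e ∈ E, k * e * k⁻¹ ∈ P := by
  have : Fact (Nat.Prime 2) := ⟨Nat.prime_two⟩
  have hE' : IsPGroup 2 (E.subgroupOf K) := hE.comap_of_injective K.subtype K.subtype_injective
  obtain ⟨R, hR⟩ := hE'.exists_le_sylow
  obtain ⟨k, hk⟩ := MulAction.exists_smul_eq K R (P.subtype hP)
  refine ⟨k, k.2, fun e he => ?_⟩
  have h1 : k * (⟨e, hEK he⟩ : K) * k⁻¹ ∈ ((k • R : Sylow 2 K) : Subgroup K) :=
    ⟨⟨e, hEK he⟩, hR he, rfl⟩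
  rw [hk] at h1
  exact h1

/-- The core of Glauberman's theorem: an involution lying in the commutator subgroup is trivial. -/
theorem glauberman_false [Finite G] (hO : pPrimeCore 2 G = ⊥) (S : Sylow 2 G)
    (C : Subgroup (MulAut G)) (hC : ∀ φ ∈ C, ∀ s ∈ S, φ s = s) (γ : C) (hγ : orderOf γ = 2)
    (hγc : γ ∈ commutator C) : False := by
  classical
  have : Fact (Nat.Prime 2) := ⟨Nat.prime_two⟩
  set g0 : MulAut G := (γ : MulAut G) with hg0
  have hg0o : orderOf g0 = 2 := by rw [hg0, Subgroup.orderOf_coe, hγ]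
  set A := zpowers g0
  haveI : Finite (G ⋊[A.subtype] A) := Finite.of_equiv _ (SemidirectProduct.equivProd (φ := A.subtype)).symm
  set i : G →* (G ⋊[A.subtype] A) := SemidirectProduct.inl
  set t : A := ⟨g0, mem_zpowers g0⟩
  have ht2 : orderOf t = 2 := by rw [Subgroup.orderOf_mk, hg0o]
  set u : (G ⋊[A.subtype] A) := SemidirectProduct.inr t with hu
  have hiinj : Function.Injective i := SemidirectProduct.inl_injective
  have hu2 : orderOf u = 2 := by
    rw [hu, orderOf_injective _ SemidirectProduct.inr_injective, ht2]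
  have hconj : ∀ a : G, u * i a * u⁻¹ = i (g0 a) := fun a =>
    ((SemidirectProduct.inl_aut (φ := A.subtype) t a).trans (by rw [map_inv])).symm
  have hcomm : ∀ a : G, Commute u (i a) ↔ g0 a = a := fun a => by
    rw [commute_iff_conj, hconj, hiinj.eq_iff]
  have hconj' : ∀ g : G, i g * u * (i g)⁻¹ = i (g * (g0 g)⁻¹) * u := fun g => by
    rw [map_mul, map_inv, ← hconj]
    simp [mul_assoc]
  -- elements of `(G ⋊[A.subtype] A)`
  have hA : ∀ a : A, a = 1 ∨ a = t := by
    intro a
    have hpre : Nat.card A = 2 := by rw [Nat.card_zpowers, hg0o]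
    obtain ⟨b, -, hb⟩ := (Nat.card_eq_two_iff' (1 : A)).1 hpre
    rcases em (a = 1) with e | e
    · exact Or.inl e
    · exact Or.inr ((hb a e).trans (hb t (inv_ne_one ht2)).symm)
  have hdec : ∀ x : (G ⋊[A.subtype] A), ∃ a : G, x = i a ∨ x = i a * u := by
    intro x
    refine ⟨x.left, ?_⟩
    rw [← SemidirectProduct.inl_left_mul_inr_right x]
    rcases hA x.right with e | e
    · exact Or.inl (by rw [e, map_one, mul_one]; simp [i])
    · exact Or.inr (by rw [e]; simp [i, hu])
  have hright : ∀ a : G, SemidirectProduct.rightHom (i a) = (1 : A) := fun a =>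
    SemidirectProduct.rightHom_inl a
  -- a Sylow subgroup of `(G ⋊[A.subtype] A)` extending `S` and containing `u`
  have hSu : ∀ a ∈ S, Commute u (i a) := fun a ha => (hcomm a).2 (hC _ γ.2 a ha)
  obtain ⟨P, hP⟩ : ∃ P : Sylow 2 (G ⋊[A.subtype] A), (S : Subgroup G).map i ⊔ zpowers u ≤ P :=
    (IsPGroup.to_sup_of_normal_left' (S.2.map i)
      (IsPGroup.of_card (n := 1) (by rw [Nat.card_zpowers, hu2]; rfl))
      (zpowers_le.2 (Subgroup.mem_normalizer_iff.2 fun x => by
        constructor
        · rintro ⟨a, ha, rfl⟩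
          rw [hconj, hC _ γ.2 a ha]; exact ⟨a, ha, rfl⟩
        · rintro ⟨a, ha, hax⟩
          refine ⟨a, ha, ?_⟩
          rw [show x = u⁻¹ * i a * u by rw [hax]; simp [mul_assoc], inv_eq hu2]
          conv_rhs => enter [2]; rw [← inv_eq hu2]
          rw [hconj, hC _ γ.2 a ha]))).exists_le_sylow
  have hiP : ∀ a : G, i a ∈ P ↔ a ∈ S := by
    intro a
    refine ⟨fun ha => ?_, fun ha => hP (mem_sup_left ⟨a, ha, rfl⟩)⟩
    have hle : (S : Subgroup G) ≤ (P : Subgroup (G ⋊[A.subtype] A)).comap i := fun b hb =>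
      hP (mem_sup_left ⟨b, hb, rfl⟩)
    exact (S.3 (P.2.comap_of_injective i hiinj) hle).le ha
  have huP : u ∈ P := hP (mem_sup_right (mem_zpowers u))
  have hPu : (P : Subgroup (G ⋊[A.subtype] A)) ≤ centralizer ({u} : Set (G ⋊[A.subtype] A)) := by
    intro x hx
    refine mem_centralizer_singleton_iff.2 ?_
    obtain ⟨a, rfl | rfl⟩ := hdec x
    · exact (hSu a ((hiP a).1 hx)).symm.eq
    · have ha : a ∈ S := (hiP a).1 (show i a ∈ (P : Subgroup (G ⋊[A.subtype] A)) by simpa using (mul_mem hx (inv_mem huP) : i a * u * u⁻¹ ∈ (P : Subgroup (G ⋊[A.subtype] A))))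
      exact ((hSu a ha).symm.mul_left (Commute.refl u)).eq
  -- conjugating a 2-subgroup centralised by `u` into `P` by an element of `F`
  have hinto : ∀ E : Subgroup (G ⋊[A.subtype] A), IsPGroup 2 E → E ≤ centralizer ({u} : Set (G ⋊[A.subtype] A)) →
      ∃ h : G, g0 h = h ∧ ∀ e ∈ E, i h * e * (i h)⁻¹ ∈ P := by
    intro E hE hEu
    obtain ⟨k, hk, hkE⟩ := exists_conj_mem_sylow _ P hPu E hE hEu
    have hku : Commute u k := (mem_centralizer_singleton_iff.1 hk).symm
    obtain ⟨h, rfl | rfl⟩ := hdec k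
    · exact ⟨h, (hcomm h).1 hku, hkE⟩
    · have hh : Commute u (i h) := by
        have := hku.mul_right (Commute.refl u).inv_right
        simpa using this
      refine ⟨h, (hcomm h).1 hh, fun e he => ?_⟩
      have h1 := hkE e he
      have hue : u * e * u⁻¹ = e :=
        commute_iff_conj.1 (mem_centralizer_singleton_iff.1 (hEu he) : Commute e u).symm
      rwa [show i h * u * e * (i h * u)⁻¹ = i h * (u * e * u⁻¹) * (i h)⁻¹ by simp [mul_assoc], hue] at h1
  -- `u` is isolated; the key claim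
  have key : ∀ g : G, g * (g0 g)⁻¹ ∈ S → g * (g0 g)⁻¹ = 1 := by
    by_contra! hcon
    set As := {s : G | s ∈ S ∧ s ≠ 1 ∧ ∃ g : G, g * (g0 g)⁻¹ = s}
    have hAs : As.Nonempty := by
      obtain ⟨g, hg, hg1⟩ := hcon
      exact ⟨_, hg, hg1, g, rfl⟩
    obtain ⟨s, ⟨hsS, hs1, g, hg⟩, hmax'⟩ := Set.exists_max_image As
      (fun s => Nat.card ((S : Subgroup G) ⊓ centralizer ({s} : Set G) : Subgroup G))
      (Set.toFinite As) hAs
    set D := (S : Subgroup G) ⊓ centralizer ({s} : Set G) with hD
    have hsD : s ∈ D := ⟨hsS, mem_centralizer_singleton_iff.2 rfl⟩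
    have hss : s * s = 1 := by
      have h1 : g0 s = s := hC _ γ.2 s hsS
      have h2 : (i s * u) * (i s * u) = 1 := by
        rw [← hg, ← hconj']
        have := inv_mul_self hu2
        calc i g * u * (i g)⁻¹ * (i g * u * (i g)⁻¹) = i g * (u * u) * (i g)⁻¹ := by simp [mul_assoc]
          _ = 1 := by rw [this, mul_one, mul_inv_cancel]
      apply hiinj
      rw [map_mul, map_one, ← h2]
      have := ((hcomm s).2 h1).eq
      calc i s * i s = i s * i s * (u * u) := by rw [inv_mul_self hu2, mul_one]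
        _ = i s * (i s * u) * u := by simp only [mul_assoc]
        _ = i s * (u * i s) * u := by rw [this]
        _ = _ := by simp only [mul_assoc]
    have hDS : ∀ d ∈ D, d ∈ S := fun d hd => hd.1
    have hDp : IsPGroup 2 D := S.2.to_le inf_le_left
    set iD := D.map i with hiD
    have hmax : ∀ E : Subgroup (G ⋊[A.subtype] A), IsPGroup 2 E → E ≤ centralizer ({u} : Set (G ⋊[A.subtype] A)) →
        E ≤ centralizer ({i s} : Set (G ⋊[A.subtype] A)) → iD ≤ E → ∀ a : G, i a ∈ E → a ∈ D := by
      intro E hE hEu hEs hDE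
      obtain ⟨h, hh, hhE⟩ := hinto E hE hEu
      have hsE : i s ∈ E := hDE ⟨s, hsD, rfl⟩
      have hs' : h * s * h⁻¹ ∈ S := (hiP _).1 (by simpa using hhE _ hsE)
      have hmem : h * s * h⁻¹ ∈ As := by
        refine ⟨hs', fun e => hs1 (conj_eq_one_iff.1 e), h * g, ?_⟩
        rw [map_mul, hh, ← hg]; simp [mul_assoc]
      set E0 := E.comap i with hE0
      have hle : D ≤ E0 := fun d hd => hDE ⟨d, hd, rfl⟩
      have hle' : E0.map (MulAut.conj h).toMonoidHom ≤
          (S : Subgroup G) ⊓ centralizer ({h * s * h⁻¹} : Set G) := by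
        rintro _ ⟨a, ha, rfl⟩
        refine ⟨(hiP _).1 (by simpa using hhE _ ha), mem_centralizer_singleton_iff.2 ?_⟩
        have hc : Commute a s := hiinj (by
          rw [map_mul, map_mul]; exact mem_centralizer_singleton_iff.1 (hEs ha))
        exact (hc.map (MulAut.conj h).toMonoidHom).eq
      have hc1 := (Subgroup.card_le_of_le hle').trans (hmax' _ hmem)
      rw [Subgroup.card_map_of_injective (f := (MulAut.conj h).toMonoidHom)
        (MulAut.conj h).injective] at hc1
      intro a ha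
      rw [Subgroup.eq_of_le_of_card_ge hle hc1]
      exact ha
    -- a Sylow subgroup of the centraliser of `D`
    set K := centralizer (iD : Set (G ⋊[A.subtype] A)) with hK
    have huK : u ∈ K := mem_centralizer_iff.2 (by
      rintro _ ⟨d, hd, rfl⟩; exact (hSu d (hDS d hd)).symm.eq)
    obtain ⟨W0, hW0⟩ := ((IsPGroup.of_card (n := 1)
      (by rw [Nat.card_zpowers, hu2]; rfl) : IsPGroup 2 (zpowers u)).comap_of_injective
        K.subtype K.subtype_injective).exists_le_sylow
    set W := (W0 : Subgroup K).map K.subtype with hW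
    have hWp : IsPGroup 2 W := W0.2.map _
    have hWK : W ≤ K := Subgroup.map_subtype_le _
    have huW : u ∈ W := ⟨⟨u, huK⟩, hW0 (mem_zpowers u), rfl⟩
    have hiDp : IsPGroup 2 iD := hDp.map i
    have hnorm : W ≤ normalizer (iD : Set (G ⋊[A.subtype] A)) := by
      refine hWK.trans ?_
      intro x hx
      rw [Subgroup.mem_normalizer_iff]
      intro y
      have hc : ∀ z ∈ iD, x * z * x⁻¹ = z := fun z hz =>
        commute_iff_conj.1 (mem_centralizer_iff.1 hx z hz : z * x = x * z).symm
      refine ⟨fun hy => by rw [hc y hy]; exact hy, fun hy => ?_⟩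
      have h1 : x * y * x⁻¹ = x * (x * y * x⁻¹) * x⁻¹ := (hc _ hy).symm
      rw [show y = x * y * x⁻¹ from mul_left_cancel (mul_right_cancel h1)]
      exact hy
    have hWDp : IsPGroup 2 (iD ⊔ W : Subgroup (G ⋊[A.subtype] A)) := IsPGroup.to_sup_of_normal_left' hiDp hWp hnorm
    obtain ⟨Q, hQ⟩ := hWDp.exists_le_sylow
    obtain ⟨k, hk⟩ := MulAction.exists_smul_eq (G ⋊[A.subtype] A) Q P
    have hkP : ∀ x ∈ iD ⊔ W, k * x * k⁻¹ ∈ P := fun x hx => by
      rw [← hk]; exact ⟨x, hQ hx, rfl⟩
    set v := k⁻¹ * u * k with hv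
    have hvc : ∀ x ∈ iD ⊔ W, Commute x v := fun x hx => by
      have h1 : Commute (k * x * k⁻¹) u := mem_centralizer_singleton_iff.1 (hPu (hkP x hx))
      have h2 := h1.map (MulAut.conj k⁻¹).toMonoidHom
      simpa [hv, mul_assoc] using h2
    have hvK : v ∈ K := mem_centralizer_iff.2 fun z hz => (hvc z (mem_sup_left hz)).eq
    have hvW : v ∈ W := by
      have hv2 : orderOf v = 2 := by
        rw [hv, show k⁻¹ * u * k = k⁻¹ * u * k⁻¹⁻¹ by rw [inv_inv], orderOf_conj, hu2]
      have hn : zpowers (⟨v, hvK⟩ : K) ≤ normalizer ((W0 : Subgroup K) : Set K) := by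
        refine zpowers_le.2 (Subgroup.centralizer_le_normalizer _ (mem_centralizer_iff.2 fun z hz => ?_))
        exact Subtype.ext (hvc z (mem_sup_right ⟨z, hz, rfl⟩)).eq
      have hp := IsPGroup.to_sup_of_normal_left' W0.2
        (IsPGroup.of_card (n := 1) (by rw [Nat.card_zpowers, Subgroup.orderOf_mk, hv2]; rfl) :
          IsPGroup 2 (zpowers (⟨v, hvK⟩ : K))) hn
      exact ⟨⟨v, hvK⟩, (W0.3 hp le_sup_left) ▸ mem_sup_right (mem_zpowers _), rfl⟩
    have hEmax : ∀ a : G, i a ∈ W → Commute u (i a) → a ∈ D := by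
      intro a ha hca
      refine hmax ((iD ⊔ W) ⊓ centralizer ({u} : Set (G ⋊[A.subtype] A))) (hWDp.to_le inf_le_left) inf_le_right
        ?_ ?_ a ⟨mem_sup_right ha, mem_centralizer_singleton_iff.2 hca.symm.eq⟩
      · refine inf_le_left.trans (sup_le ?_ ?_)
        · rintro _ ⟨d, hd, rfl⟩
          exact mem_centralizer_singleton_iff.2
            (Commute.map (mem_centralizer_singleton_iff.1 hd.2 : Commute d s) i).eq
        · exact hWK.trans fun x hx => mem_centralizer_singleton_iff.2
            (mem_centralizer_iff.1 hx _ ⟨s, hsD, rfl⟩).symm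
      · refine le_inf le_sup_left ?_
        rintro _ ⟨d, hd, rfl⟩
        exact mem_centralizer_singleton_iff.2 (hSu d (hDS d hd)).symm.eq
    obtain ⟨y, hy⟩ : ∃ y : G, v = i y * u := by
      obtain ⟨a, e | e⟩ := hdec v
      · exfalso
        have h1 := congrArg SemidirectProduct.rightHom e
        rw [hv, hright, map_mul, map_mul, map_inv, SemidirectProduct.rightHom_inr] at h1
        have hab : t * SemidirectProduct.rightHom k = SemidirectProduct.rightHom k * t := by
          rcases hA (SemidirectProduct.rightHom k) with e' | e' <;> simp [e']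
        rw [mul_assoc, hab, inv_mul_cancel_left] at h1
        exact inv_ne_one ht2 h1
      · exact ⟨a, e⟩
    have hiy : i y ∈ W := by
      have := mul_mem hvW (inv_mem huW)
      rwa [hy, mul_inv_cancel_right] at this
    have hyu : Commute u (i y) := by
      have h1 : Commute u v := hvc u (mem_sup_right huW)
      rw [hy] at h1
      simpa using h1.mul_right (Commute.refl u).inv_right
    have hyD := hEmax y hiy hyu
    have hWu : ∀ x ∈ W, Commute x u := fun x hx => by
      have h1 : Commute x v := hvc x (mem_sup_right hx)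
      have h2 : Commute x (i y) := (mem_centralizer_iff.1 (hWK hx) _ ⟨y, hyD, rfl⟩).symm
      rw [hy] at h1
      simpa using h2.inv_right.mul_right h1
    have hWD : ∀ a : G, i a ∈ W → a ∈ D := fun a ha => hEmax a ha (hWu _ ha).symm
    -- the 2-elements of `C(D)` lie in `D`
    set H := centralizer (D : Set G) with hH
    have hHK : ∀ a : H, i (a : G) ∈ K := fun a => mem_centralizer_iff.2 (by
      rintro _ ⟨d, hd, rfl⟩
      rw [← map_mul, ← map_mul, mem_centralizer_iff.1 a.2 d hd])
    obtain ⟨Q⟩ : Nonempty (Sylow 2 H) := inferInstance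
    have hQD : ∀ q ∈ Q, (q : G) ∈ D := by
      intro q hq
      let f : H →* K := (i.comp H.subtype).codRestrict K fun a => hHK a
      obtain ⟨R, hR⟩ := (Q.2.map f).exists_le_sylow
      obtain ⟨c, hc⟩ := MulAction.exists_smul_eq K R W0
      have h1 : c * f q * c⁻¹ ∈ (W0 : Subgroup K) := by
        rw [← hc]; exact ⟨f q, hR ⟨q, hq, rfl⟩, rfl⟩
      have h2 : (c : (G ⋊[A.subtype] A)) * i (q : G) * (c : (G ⋊[A.subtype] A))⁻¹ ∈ W := ⟨_, h1, rfl⟩
      obtain ⟨a, ha⟩ : ∃ a : G, (c : (G ⋊[A.subtype] A)) * i (q : G) * (c : (G ⋊[A.subtype] A))⁻¹ = i a := by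
        have h3 : (c : (G ⋊[A.subtype] A)) * i (q : G) * (c : (G ⋊[A.subtype] A))⁻¹ ∈ (SemidirectProduct.rightHom : (G ⋊[A.subtype] A) →* A).ker := by
          rw [MonoidHom.mem_ker, map_mul, map_mul, hright, mul_one, map_inv, mul_inv_cancel]
        rw [← SemidirectProduct.range_inl_eq_ker_rightHom] at h3
        obtain ⟨a, ha⟩ := h3
        exact ⟨a, ha.symm⟩
      have haD := hWD a (ha ▸ h2)
      have h4 : (c : (G ⋊[A.subtype] A))⁻¹ * i a * c = i a := by
        have h5 : i a * (c : (G ⋊[A.subtype] A)) = c * i a := mem_centralizer_iff.1 c.2 _ ⟨a, haD, rfl⟩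
        rw [mul_assoc, h5, inv_mul_cancel_left]
      have h6 : i (q : G) = i a := by rw [← h4, ← ha]; simp [mul_assoc]
      rw [hiinj h6]; exact haD
    have hQc : ∀ q ∈ Q, ∀ a : H, a * q = q * a := fun q hq a =>
      Subtype.ext (mem_centralizer_iff.1 a.2 _ (hQD q hq)).symm
    have hle : normalizer ((Q : Subgroup H) : Set H) ≤ centralizer ((Q : Subgroup H) : Set H) :=
      fun a _ => mem_centralizer_iff.2 fun q hq => (hQc q hq a).symm
    set π := MonoidHom.transferSylow Q hle with hπ
    have hcompl := MonoidHom.ker_transferSylow_isComplement' Q hle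
    have hkodd : ¬ 2 ∣ Nat.card π.ker := by
      rw [hπ, ← hcompl.index_eq_card]; exact Q.not_dvd_index
    -- adjust `g` so that it carries `D` into `S`
    have hgu : i g * u * (i g)⁻¹ = i s * u := by rw [hconj', hg]
    obtain ⟨h0, hh0, hh0E⟩ := hinto (iD.map (MulAut.conj (i g)⁻¹).toMonoidHom) (hiDp.map _) (by
      rintro _ ⟨_, ⟨d, hd, rfl⟩, rfl⟩
      refine mem_centralizer_singleton_iff.2 ?_
      have h1 : Commute (i d) (i g * u * (i g)⁻¹) := by
        rw [hgu]
        exact (Commute.map (mem_centralizer_singleton_iff.1 hd.2 : Commute d s) i).mul_right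
          (hSu d (hDS d hd)).symm
      have h2 := h1.map (MulAut.conj (i g)⁻¹).toMonoidHom
      simpa [mul_assoc] using h2.eq)
    set g' := g * h0⁻¹ with hg'
    have hg's : g' * (g0 g')⁻¹ = s := by rw [hg', map_mul, map_inv, hh0, ← hg]; simp [mul_assoc]
    have hg'D : ∀ d ∈ D, g'⁻¹ * d * g' ∈ S := fun d hd => by
      rw [← hiP]
      have := hh0E _ ⟨_, ⟨d, hd, rfl⟩, rfl⟩
      simp only [MulEquiv.coe_toMonoidHom, MulAut.conj_apply, inv_inv] at this
      simpa [hg', mul_assoc] using this
    -- the homomorphism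
    have hmemH : ∀ φ : C, g' * ((φ : MulAut G) g')⁻¹ ∈ H := by
      intro φ
      refine mem_centralizer_iff.2 fun d hd => ?_
      have h1 : ((φ : MulAut G) g')⁻¹ * d * (φ : MulAut G) g' = g'⁻¹ * d * g' := by
        have e := hC _ φ.2 _ (hg'D d hd)
        rw [map_mul (φ : MulAut G) (g'⁻¹ * d), map_mul (φ : MulAut G) g'⁻¹ d,
          hC _ φ.2 d (hDS d hd), map_inv (φ : MulAut G)] at e
        exact e
      have h2 := congrArg (fun w => g' * w * ((φ : MulAut G) g')⁻¹) h1
      simp only [mul_assoc, mul_inv_cancel_left, mul_inv_cancel, mul_one] at h2 ⊢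
      exact h2.symm
    have hact : ∀ (φ : C) (x : G) (hx : x ∈ H), (φ : MulAut G) x ∈ H := fun φ x hx =>
      mem_centralizer_iff.2 fun d hd => by
        conv_lhs => rw [← hC _ φ.2 d (hDS d hd)]
        conv_rhs => rw [← hC _ φ.2 d (hDS d hd)]
        rw [← map_mul, ← map_mul, mem_centralizer_iff.1 hx d hd]
    have hfix : ∀ (φ : C) (x : H), π ⟨(φ : MulAut G) x, hact φ x x.2⟩ = π x := by
      intro φ x
      obtain ⟨⟨n, q⟩, hx, -⟩ := hcompl.existsUnique x
      simp only at hx
      have hn : π ⟨(φ : MulAut G) (n : H), hact φ _ (n : H).2⟩ = 1 := by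
        refine orderOf_eq_one_iff.1 (Nat.eq_one_of_dvd_coprimes (a := Nat.card π.ker)
          (b := Nat.card (Q : Subgroup H)) ?_ ?_ (orderOf_dvd_natCard _))
        · obtain ⟨m, hm⟩ := Q.2.exists_card_eq
          rw [hm]
          exact (((Nat.Prime.coprime_iff_not_dvd Nat.prime_two).2 hkodd).pow_left m).symm
        · refine (orderOf_map_dvd _ _).trans ?_
          rw [Subgroup.orderOf_mk, MulEquiv.orderOf_eq, Subgroup.orderOf_coe]
          exact Subgroup.orderOf_dvd_natCard _ n.2
      have e1 : (⟨(φ : MulAut G) x, hact φ x x.2⟩ : H) =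
          ⟨(φ : MulAut G) (n : H), hact φ _ (n : H).2⟩ * (q : H) := by
        apply Subtype.ext
        show (φ : MulAut G) x = (φ : MulAut G) (n : H) * ((q : H) : G)
        conv_rhs => rw [← hC _ φ.2 _ (hDS _ (hQD _ q.2))]
        rw [← map_mul, ← Subgroup.coe_mul, hx]
      have e2 : π (n : H) = 1 := n.2
      rw [e1, map_mul, hn, ← hx, map_mul, e2]
    let χ : C →* (Q : Subgroup H) :=
      { toFun := fun φ => π ⟨g' * ((φ : MulAut G) g')⁻¹, hmemH φ⟩
        map_one' := by
          rw [← map_one π]; congr 1; exact Subtype.ext (by simp)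
        map_mul' := fun φ ψ => by
          rw [← hfix φ ⟨g' * ((ψ : MulAut G) g')⁻¹, hmemH ψ⟩, ← map_mul]
          congr 1
          apply Subtype.ext
          simp [MulAut.mul_apply, mul_assoc] }
    have hker : commutator C ≤ χ.ker := by
      rw [_root_.commutator_def, Subgroup.commutator_le]
      intro a _ b _
      rw [MonoidHom.mem_ker, map_commutatorElement, commutatorElement_eq_one_iff_commute]
      exact Subtype.ext (hQc _ (χ a).2 ((χ b : (Q : Subgroup H)) : H)).symm
    have hχ : π ⟨g' * (g0 g')⁻¹, hmemH γ⟩ = 1 := hker hγc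
    have hord : orderOf (⟨g' * (g0 g')⁻¹, hmemH γ⟩ : H) = 2 := by
      rw [Subgroup.orderOf_mk, hg's]; exact orderOf_eq_two hss hs1
    have h2k := Subgroup.orderOf_dvd_natCard π.ker hχ
    rw [hord] at h2k
    exact hkodd h2k
  have hiso : IsIsolatedInv u := by
    refine ⟨hu2, fun x hx => ?_⟩
    obtain ⟨g, hg⟩ : ∃ g : G, x * u * x⁻¹ = i g * u * (i g)⁻¹ := by
      obtain ⟨g, rfl | rfl⟩ := hdec x
      · exact ⟨g, rfl⟩
      · exact ⟨g, by simp [mul_assoc]⟩
    rw [hg, hconj'] at hx ⊢
    set a := g * (g0 g)⁻¹ with ha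
    suffices a = 1 by rw [this, map_one, one_mul]
    by_contra ha1
    have hca : Commute u (i a) := by
      simpa using hx.symm.mul_right (Commute.refl u).inv_right
    have ha2 : a * a = 1 := by
      have h2 : i a * u * (i a * u) = 1 := by
        rw [ha, ← hconj']
        calc i g * u * (i g)⁻¹ * (i g * u * (i g)⁻¹) = i g * (u * u) * (i g)⁻¹ := by simp [mul_assoc]
          _ = 1 := by rw [inv_mul_self hu2, mul_one, mul_inv_cancel]
      apply hiinj
      rw [map_mul, map_one, ← h2]
      calc i a * i a = i a * i a * (u * u) := by rw [inv_mul_self hu2, mul_one]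
        _ = i a * (i a * u) * u := by simp only [mul_assoc]
        _ = i a * (u * i a) * u := by rw [hca.eq]
        _ = _ := by simp only [mul_assoc]
    obtain ⟨h, hh, hhE⟩ := hinto (zpowers (i a))
      (IsPGroup.of_card (n := 1) (by
        rw [Nat.card_zpowers, orderOf_injective i hiinj, orderOf_eq_two ha2 ha1]; rfl))
      (zpowers_le.2 (mem_centralizer_singleton_iff.2 hca.symm.eq))
    have hS' : h * g * (g0 (h * g))⁻¹ ∈ S := by
      rw [← hiP, show h * g * (g0 (h * g))⁻¹ = h * a * h⁻¹ by rw [map_mul, hh, ha]; simp [mul_assoc],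
        map_mul, map_mul, map_inv]
      exact hhE _ (mem_zpowers _)
    have h3 := key (h * g) hS'
    rw [map_mul, hh] at h3
    refine ha1 ((conj_eq_one_iff (a := h) (b := a)).1 ?_)
    rw [← h3, ha]; simp [mul_assoc]
  -- conclude with the Z*-theorem
  set O := pPrimeCore 2 (G ⋊[A.subtype] A) with hOX
  have hOodd : ¬ 2 ∣ Nat.card O := Cores.not_dvd_card_pPrimeCore
  have hcen : ∀ x : (G ⋊[A.subtype] A), ⁅u, x⁆ = 1 := by
    intro x
    have hx := zStar_theorem (G ⋊[A.subtype] A) u hiso x
    have hker : O ≤ (SemidirectProduct.inl : G →* (G ⋊[A.subtype] A)).range := by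
      rw [SemidirectProduct.range_inl_eq_ker_rightHom]
      intro z hz
      rw [MonoidHom.mem_ker, ← orderOf_eq_one_iff]
      refine Nat.eq_one_of_dvd_coprimes (b := Nat.card A)
        ?_ ((orderOf_map_dvd _ _).trans (Subgroup.orderOf_dvd_natCard O hz)) (orderOf_dvd_natCard _)
      rw [Nat.card_zpowers, hg0o]
      exact (Nat.Prime.coprime_iff_not_dvd Nat.prime_two).2 hOodd |>.symm
    have hOn : O.Normal := by rw [hOX]; infer_instance
    have hbot : O.comap i = ⊥ := eq_bot_of_core hO inferInstance fun h2 => hOodd <| h2.trans (by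
      rw [← Subgroup.card_map_of_injective hiinj]
      exact Subgroup.card_dvd_of_le (Subgroup.map_comap_le _ _))
    obtain ⟨a, ha⟩ := hker hx
    have hab : a ∈ O.comap i := by
      show i a ∈ O
      rw [show i a = ⁅u, x⁆ from ha]; exact hx
    rw [hbot, Subgroup.mem_bot] at hab
    rw [← ha, hab, map_one]
  refine inv_ne_one hg0o (MulEquiv.ext fun a => ?_)
  exact (hcomm a).1 (commutatorElement_eq_one_iff_commute.1 (hcen (i a)))

/-- The commutator subgroup of the group of automorphisms fixing a Sylow 2-subgroup is odd. -/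
theorem glauberman_commutator_odd [Finite G] (hO : pPrimeCore 2 G = ⊥) (S : Sylow 2 G)
    (C : Subgroup (MulAut G)) (hC : ∀ φ ∈ C, ∀ s ∈ S, φ s = s) :
    ¬ 2 ∣ Nat.card (commutator C) := by
  intro h2
  have : Fact (Nat.Prime 2) := ⟨Nat.prime_two⟩
  obtain ⟨c, hc⟩ := exists_prime_orderOf_dvd_card' 2 h2
  exact glauberman_false hO S C hC c (by rw [Subgroup.orderOf_coe, hc]) c.2

/-- Abelian Sylow 2-subgroups and normal 2-complement. -/
theorem glauberman_sylow [Finite G] (hO : pPrimeCore 2 G = ⊥) (S : Sylow 2 G)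
    (C : Subgroup (MulAut G)) (hC : ∀ φ ∈ C, ∀ s ∈ S, φ s = s) (T : Sylow 2 C) :
    (∀ a b : T, a * b = b * a) ∧ ∃ N : Subgroup C, N.Normal ∧ N.IsComplement' (T : Subgroup C) := by
  have : Fact (Nat.Prime 2) := ⟨Nat.prime_two⟩
  have hodd := glauberman_commutator_odd hO S C hC
  have htriv : ∀ x : C, x ∈ (T : Subgroup C) → x ∈ commutator C → x = 1 := by
    intro x hxT hxc
    obtain ⟨m, hm⟩ := T.2.exists_card_eq
    refine orderOf_eq_one_iff.1 (Nat.eq_one_of_dvd_coprimes (a := Nat.card (commutator C))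
      (b := Nat.card (T : Subgroup C)) ?_ (Subgroup.orderOf_dvd_natCard _ hxc)
      (Subgroup.orderOf_dvd_natCard _ hxT))
    rw [hm]
    exact (((Nat.Prime.coprime_iff_not_dvd Nat.prime_two).2 hodd).pow_left m).symm
  have hab : ∀ a b : T, a * b = b * a := fun a b => Subtype.ext (commutatorElement_eq_one_iff_commute.1
    (htriv _ (by
      rw [commutatorElement_def]
      exact mul_mem (mul_mem (mul_mem a.2 b.2) (inv_mem a.2)) (inv_mem b.2))
      (commutator_mem_commutator (mem_top _) (mem_top _)))).eq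
  refine ⟨hab, _, inferInstance, MonoidHom.ker_transferSylow_isComplement' T fun n hn => ?_⟩
  refine mem_centralizer_iff.2 fun x hx => ?_
  have h1 := htriv ⁅n, x⁆ (by
    rw [commutatorElement_def]
    exact mul_mem ((Subgroup.mem_normalizer_iff.1 hn x).1 hx) (inv_mem hx))
    (commutator_mem_commutator (mem_top _) (mem_top _))
  exact (commutatorElement_eq_one_iff_commute.1 h1).eq.symm

end Cfsg.Agent.Invol
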