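import Cfsg.Agent.BlocksChar.IndexThreeInvolution
import Cfsg.Agent.Brauer.KleinFour
import Cfsg.Agent.Transfer.Frobenius
import Cfsg.Agent.Cores.Basic
import Mathlib.GroupTheory.SchurZassenhaus

/-!
# Brauer's theorem on homocyclic Sylow 2-subgroups of rank two

The principal block relations of `BlocksChar.IndexThree` at an involution force two non-principal
characters of degree one.
-/

set_option autoImplicit false

open Cfsg
open scoped ComplexConjugate

namespace Cfsg.Agent.Invol.Homocyclic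

universe u

/-- The only solution of the degree equations. -/
theorem degree_eq_one {A B C : ℤ} (hA : (16 : ℤ) ∣ A - 1) (hB : (16 : ℤ) ∣ B - 1)
    (h1 : 1 + A + B = C) (h2 : C * (A * B + A + B) = 9 * (A * B)) : A = 1 ∧ B = 1 := by
  obtain ⟨i, hi⟩ := hA
  obtain ⟨j, hj⟩ := hB
  have hA' : A = 16 * i + 1 := by linarith
  have hB' : B = 16 * j + 1 := by linarith
  subst hA' hB' h1
  have key : (8 * i + 1) * (8 * j + 1) * (8 * (i + j) + 1) = (16 * i + 1) * (16 * j + 1) := by
    linarith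
  have hbd : ∀ k : ℤ, 7 * |16 * k + 1| ≤ 15 * |8 * k + 1| ∧ 0 < |8 * k + 1| ∧
      0 < (16 * k + 1) * (8 * k + 1) := by
    intro k
    rcases le_or_gt 0 k with hk | hk
    · rw [abs_of_nonneg (by omega), abs_of_nonneg (by omega)]
      exact ⟨by omega, by omega, by nlinarith⟩
    · rw [abs_of_neg (by omega), abs_of_neg (by omega)]
      exact ⟨by omega, by omega, by nlinarith⟩
  obtain ⟨hi1, hi2, hi3⟩ := hbd i
  obtain ⟨hj1, hj2, hj3⟩ := hbd j
  have hs : i + j = 0 := by
    have hpos : 0 < 8 * (i + j) + 1 := by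
      by_contra hn
      push Not at hn
      have e : (8 * (i + j) + 1) * ((8 * i + 1) * (8 * j + 1)) ^ 2 =
          ((16 * i + 1) * (8 * i + 1)) * ((16 * j + 1) * (8 * j + 1)) := by
        linear_combination ((8 * i + 1) * (8 * j + 1)) * key
      nlinarith [mul_pos hi3 hj3, sq_nonneg ((8 * i + 1) * (8 * j + 1))]
    by_contra hne
    have h9 : 9 ≤ 8 * (i + j) + 1 := by omega
    have e : |8 * i + 1| * |8 * j + 1| * (8 * (i + j) + 1) = |16 * i + 1| * |16 * j + 1| := by
      calc _ = |(8 * i + 1) * (8 * j + 1) * (8 * (i + j) + 1)| := by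
            rw [abs_mul, abs_mul, abs_of_pos hpos]
        _ = _ := by rw [key, abs_mul]
    have hm : 0 < |8 * i + 1| * |8 * j + 1| := mul_pos hi2 hj2
    have h3 : 9 * (|8 * i + 1| * |8 * j + 1|) ≤ |16 * i + 1| * |16 * j + 1| := by
      rw [← e]; nlinarith
    have h4 : 49 * (|16 * i + 1| * |16 * j + 1|) ≤ 225 * (|8 * i + 1| * |8 * j + 1|) := by
      have := mul_le_mul hi1 hj1 (by positivity) (by positivity)
      nlinarith
    nlinarith
  have hj0 : j = -i := by omega
  subst hj0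
  have : i * i = 0 := by nlinarith
  rcases mul_eq_zero.1 this with h | h <;> subst h <;> simp

variable {G : Type u} [Group G] [Finite G]

/-- An element of odd order fixing the involutions of an abelian `2`-subgroup that it normalises
centralises it. -/
theorem centralize_of_fix_involutions {P : Subgroup G} (hP : IsPGroup 2 P)
    (hc : ∀ a ∈ P, ∀ b ∈ P, a * b = b * a) {n : G} (hn : Odd (orderOf n))
    (hnP : ∀ x ∈ P, n * x * n⁻¹ ∈ P) (hfix : ∀ x ∈ P, x * x = 1 → n * x * n⁻¹ = x) :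
    ∀ x ∈ P, n * x * n⁻¹ = x := by
  suffices H : ∀ k : ℕ, ∀ x ∈ P, x ^ 2 ^ k = 1 → n * x * n⁻¹ = x by
    intro x hx
    obtain ⟨k, hk⟩ := hP ⟨x, hx⟩
    exact H k x hx (congrArg Subtype.val hk)
  intro k
  induction k with
  | zero => intro x _ h; simp only [pow_zero, pow_one] at h; simp [h]
  | succ k ih =>
    intro x hx h
    have h2 : n * (x * x) * n⁻¹ = x * x := ih _ (P.mul_mem hx hx) (by
      rw [← pow_two, ← pow_mul, ← pow_succ']; exact h)
    set d := n * x * n⁻¹ * x⁻¹ with hd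
    have hdP : d ∈ P := P.mul_mem (hnP x hx) (P.inv_mem hx)
    have hdd : d * d = 1 := by
      have hcomm : n * x * n⁻¹ * x⁻¹ = x⁻¹ * (n * x * n⁻¹) := hc _ (hnP x hx) _ (P.inv_mem hx)
      calc d * d = n * x * n⁻¹ * (x⁻¹ * (n * x * n⁻¹)) * x⁻¹ := by rw [hd]; group
        _ = n * x * n⁻¹ * (n * x * n⁻¹ * x⁻¹) * x⁻¹ := by rw [← hcomm]
        _ = n * (x * x) * n⁻¹ * (x * x)⁻¹ := by group
        _ = 1 := by rw [h2, mul_inv_cancel]
    have hnd := hfix d hdP hdd
    have hstep : ∀ j : ℕ, n ^ j * x * (n ^ j)⁻¹ = d ^ j * x := by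
      intro j
      induction j with
      | zero => simp
      | succ j ihj =>
        calc n ^ (j + 1) * x * (n ^ (j + 1))⁻¹ = n * (n ^ j * x * (n ^ j)⁻¹) * n⁻¹ := by
              rw [pow_succ']; group
          _ = (n * d * n⁻¹) ^ j * (n * x * n⁻¹) := by rw [ihj, conj_pow]; group
          _ = d ^ (j + 1) * x := by rw [hnd, pow_succ, hd]; group
    have hr := hstep (orderOf n)
    rw [pow_orderOf_eq_one, one_mul, inv_one, mul_one] at hr
    have hdr : d ^ orderOf n = 1 := right_eq_mul.1 hr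
    have hd2 : d ^ 2 = 1 := by rw [pow_two, hdd]
    obtain ⟨j, hj⟩ := hn
    rw [hj, pow_succ, pow_mul, hd2, one_pow, one_mul] at hdr
    exact mul_inv_eq_one.1 hdr

variable (P : Sylow 2 G) {m : ℕ}
  (e : (P : Subgroup G) ≃* Multiplicative (ZMod (2 ^ m) × ZMod (2 ^ m)))

include e

theorem commute {a b : G} (ha : a ∈ (P : Subgroup G)) (hb : b ∈ (P : Subgroup G)) :
    a * b = b * a := by
  have : (⟨a, ha⟩ : (P : Subgroup G)) * ⟨b, hb⟩ = ⟨b, hb⟩ * ⟨a, ha⟩ :=
    e.injective (by rw [map_mul, map_mul, mul_comm])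
  exact congrArg Subtype.val this

theorem card_sylow : Nat.card P = 2 ^ m * 2 ^ m := by
  show Nat.card (P : Subgroup G) = _
  rw [Nat.card_congr e.toEquiv, Nat.card_congr Multiplicative.toAdd, Nat.card_prod, Nat.card_zmod]

theorem card_involutions_le :
    Nat.card {x : (P : Subgroup G) // x * x = 1 ∧ x ≠ 1} ≤ 3 := by
  classical
  have : NeZero (2 ^ m) := ⟨(pow_pos (by norm_num) m).ne'⟩
  letI := Fintype.ofFinite (P : Subgroup G)
  let S := (Finset.univ : Finset (Multiplicative (ZMod (2 ^ m)))).filter fun a => a ^ 2 = 1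
  have hS : S.card ≤ 2 := IsCyclic.card_pow_eq_one_le (by norm_num)
  let f : ↥(P : Subgroup G) → Multiplicative (ZMod (2 ^ m)) × Multiplicative (ZMod (2 ^ m)) :=
    fun x => (Multiplicative.ofAdd (e x).toAdd.1, Multiplicative.ofAdd (e x).toAdd.2)
  have hinj : Function.Injective f := by
    intro a b hab
    simp only [f, Prod.mk.injEq, EmbeddingLike.apply_eq_iff_eq] at hab
    exact e.injective (Multiplicative.toAdd.injective (Prod.ext hab.1 hab.2))
  have h4 : ((Finset.univ : Finset (P : Subgroup G)).filter fun x => x * x = 1).card ≤ 4 := by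
    refine le_trans (Finset.card_le_card_of_injOn f (t := S ×ˢ S) (fun x hx => ?_) hinj.injOn) ?_
    · simp only [Finset.coe_filter, Finset.mem_univ, true_and, Set.mem_setOf_eq] at hx
      have h0 := congrArg (fun y => (e y).toAdd) hx
      simp only [map_mul, map_one, toAdd_mul, toAdd_one, Prod.ext_iff, Prod.fst_add, Prod.snd_add,
        Prod.fst_zero, Prod.snd_zero] at h0
      simp only [Finset.coe_product, Set.mem_prod, Finset.mem_coe, S, Finset.mem_filter,
        Finset.mem_univ, true_and, pow_two, f]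
      exact ⟨by rw [← ofAdd_add, h0.1, ofAdd_zero], by rw [← ofAdd_add, h0.2, ofAdd_zero]⟩
    · rw [Finset.card_product]
      exact (Nat.mul_le_mul hS hS).trans (by norm_num)
  rw [Nat.card_eq_fintype_card, Fintype.card_subtype]
  have : ((Finset.univ : Finset (P : Subgroup G)).filter fun x => x * x = 1 ∧ x ≠ 1) =
      ((Finset.univ : Finset (P : Subgroup G)).filter fun x => x * x = 1).erase 1 := by
    ext x; simp [and_comm]
  rw [this, Finset.card_erase_of_mem (by simp)]
  omega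

/-- The normaliser modulo the centraliser has order one or three, and in the second case it acts
without fixed points. -/
theorem normalizer_quotient :
    (Subgroup.centralizer ((P : Subgroup G) : Set G)).relIndex
        (Subgroup.normalizer ((P : Subgroup G) : Set G)) = 1 ∨
      BlocksChar.IndexThree P := by
  classical
  have hp : Fact (Nat.Prime 2) := ⟨Nat.prime_two⟩
  set N := Subgroup.normalizer ((P : Subgroup G) : Set G) with hN
  set C := Subgroup.centralizer ((P : Subgroup G) : Set G) with hC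
  have hCN : C ≤ N := by
    intro c hc
    rw [hN, Subgroup.mem_normalizer_iff]
    intro x
    have key : ∀ y ∈ (P : Subgroup G), c * y * c⁻¹ = y := fun y hy => by
      rw [← hc y hy, mul_inv_cancel_right]
    refine ⟨fun hx => by rw [key x hx]; exact hx, fun hx => ?_⟩
    have h3 : c * x * c⁻¹ = x :=
      mul_left_cancel (a := c) (mul_right_cancel (b := c⁻¹) (key _ hx))
    rwa [h3] at hx
  let I := {x : (P : Subgroup G) // x * x = 1 ∧ x ≠ 1}
  have hI := card_involutions_le P e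
  have hmem : ∀ n : N, ∀ x ∈ (P : Subgroup G), (n : G) * x * (n : G)⁻¹ ∈ (P : Subgroup G) :=
    fun n x hx => (Subgroup.mem_normalizer_iff.1 n.2 x).1 hx
  let act : N → I → I := fun n x => ⟨⟨(n : G) * x.1 * (n : G)⁻¹, hmem n _ x.1.2⟩,
    Subtype.ext (by
      have : (x.1 : G) * x.1 = 1 := congrArg Subtype.val x.2.1
      show (n : G) * x.1 * (n : G)⁻¹ * ((n : G) * x.1 * (n : G)⁻¹) = 1
      calc _ = (n : G) * ((x.1 : G) * x.1) * (n : G)⁻¹ := by group
        _ = 1 := by rw [this]; group),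
    fun h => x.2.2 (Subtype.ext (conj_eq_one_iff.1 (congrArg Subtype.val h)))⟩
  letI : MulAction N I :=
    { smul := act
      one_smul := fun x => Subtype.ext (Subtype.ext (by show (1 : G) * x.1 * (1 : G)⁻¹ = x.1; group))
      mul_smul := fun a b x => Subtype.ext (Subtype.ext (by
        show ((a : G) * b) * x.1 * ((a : G) * b)⁻¹ = (a : G) * ((b : G) * x.1 * (b : G)⁻¹) * (a : G)⁻¹
        group)) }
  have hsmul : ∀ (n : N) (x : I), (((n • x : I).1 : G)) = (n : G) * x.1 * (n : G)⁻¹ := fun _ _ => rfl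
  set φ := MulAction.toPermHom N I with hφ
  have hker : φ.ker = C.subgroupOf N := by
    ext n
    rw [MonoidHom.mem_ker, Subgroup.mem_subgroupOf]
    constructor
    · intro hn
      have hfix : ∀ k : N, φ k = 1 → ∀ x ∈ (P : Subgroup G), x * x = 1 →
          (k : G) * x * (k : G)⁻¹ = x := by
        intro k hk x hx hxx
        rcases eq_or_ne x 1 with rfl | hx1
        · simp
        let xi : I := ⟨⟨x, hx⟩, Subtype.ext hxx, fun h => hx1 (congrArg Subtype.val h)⟩
        have := congrArg (fun σ : Equiv.Perm I => σ xi) hk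
        exact congrArg (fun y : I => (y.1 : G)) this
      set a := Element.pPart 2 (n : G) with ha
      set b := Element.pComplPart 2 (n : G) with hb
      have hab := Element.pPart_mul_pComplPart 2 (n : G)
      have hbz : ∃ j : ℤ, b = (n : G) ^ j := by
        obtain ⟨j, hj⟩ := Subgroup.mem_zpowers_iff.1 (Element.pComplPart_mem_zpowers 2 (n : G))
        exact ⟨j, hj.symm⟩
      have haz : ∃ j : ℤ, a = (n : G) ^ j := by
        obtain ⟨j, hj⟩ := Subgroup.mem_zpowers_iff.1 (Element.pPart_mem_zpowers 2 (n : G))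
        exact ⟨j, hj.symm⟩
      obtain ⟨j, hj⟩ := hbz
      obtain ⟨i, hi⟩ := haz
      have haP : a ∈ (P : Subgroup G) := by
        have h1 : IsPGroup 2 (Subgroup.zpowers a) :=
          IsPGroup.of_card (by rw [Nat.card_zpowers, ha, Element.orderOf_pPart_eq_pow Nat.prime_two])
        have h2 : a ∈ Subgroup.zpowers a ⊓ N :=
          ⟨Subgroup.mem_zpowers a, hi ▸ N.zpow_mem n.2 i⟩
        exact ((h1.inf_normalizer_sylow P).le h2).2
      have hbC : b ∈ C := by
        have hbo : Odd (orderOf b) := by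
          have h1 := Element.coprime_orderOf_pComplPart Nat.prime_two (n : G)
          rw [← hb] at h1
          exact Nat.odd_iff.2 (Nat.two_dvd_ne_zero.1
            (Nat.prime_two.coprime_iff_not_dvd.1 h1.symm))
        have hbker : φ (n ^ j) = 1 := by rw [map_zpow, hn, one_zpow]
        have h1 := centralize_of_fix_involutions P.isPGroup' (fun x hx y hy => commute P e hx hy)
          hbo (fun x hx => hmem ⟨b, hj ▸ N.zpow_mem n.2 j⟩ x hx)
          (fun x hx hxx => by
            have := hfix (n ^ j) hbker x hx hxx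
            rwa [show ((n ^ j : N) : G) = b by rw [hj]; rfl] at this)
        intro x hx
        exact ((mul_inv_eq_iff_eq_mul.1 (h1 x hx))).symm
      rw [← hab]
      exact C.mul_mem (fun x hx => commute P e hx haP) hbC
    · intro hn
      ext x
      show (((n • x : I).1 : G)) = x.1
      rw [hsmul, ← hn _ x.1.2, mul_inv_cancel_right]
  have hidx : C.relIndex N = Nat.card φ.range := by
    rw [Subgroup.relIndex, ← hker, Subgroup.index_ker]
  have hdvd : Nat.card φ.range ∣ 6 := by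
    refine (Subgroup.card_subgroup_dvd_card _).trans ?_
    rw [Nat.card_perm]
    exact Nat.factorial_dvd_factorial (show Nat.card I ≤ 3 from hI)
  have hodd : ¬ 2 ∣ C.relIndex N := by
    intro h2
    have hPC : (P : Subgroup G) ≤ C := fun x hx y hy => commute P e hy hx
    refine P.not_dvd_index (h2.trans ?_)
    refine (dvd_trans ?_ (Dvd.intro _ (Subgroup.relIndex_mul_index (P.le_normalizer))))
    exact Dvd.intro_left _ (Subgroup.relIndex_mul_relIndex (P : Subgroup G) C N hPC hCN)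
  rcases (by
      have h6 := Nat.le_of_dvd (by norm_num) hdvd
      have hne2 : Nat.card φ.range ≠ 2 := fun h => hodd (by rw [hidx, h])
      have hne6 : Nat.card φ.range ≠ 6 := fun h => hodd (by rw [hidx, h]; norm_num)
      have h0 : 0 < Nat.card φ.range := Nat.card_pos
      rw [hidx]
      interval_cases (Nat.card φ.range) <;> first | omega | norm_num at hdvd :
      C.relIndex N = 1 ∨ C.relIndex N = 3) with h | h
  · exact Or.inl h
  right
  refine ⟨⟨⟨fun a b => Subtype.ext (commute P e a.2 b.2)⟩⟩, h, fun y hy hy1 => ?_⟩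
  refine le_antisymm ?_ (le_inf (fun c hc => Subgroup.mem_centralizer_singleton_iff.2 (hc y hy).symm) hCN)
  intro n hn
  obtain ⟨k, hk⟩ := P.isPGroup' ⟨y, hy⟩
  have hk' : y ^ 2 ^ k = 1 := congrArg Subtype.val hk
  obtain ⟨i, hu⟩ : ∃ i : ℕ, y ^ 2 ^ i ≠ 1 ∧ y ^ 2 ^ i * y ^ 2 ^ i = 1 := by
    obtain ⟨j, hj⟩ := IsPGroup.iff_orderOf.1 P.isPGroup' ⟨y, hy⟩
    rw [Subgroup.orderOf_mk] at hj
    have hj0 : j ≠ 0 := fun h0 => hy1 (orderOf_eq_one_iff.1 (by rw [hj, h0, pow_zero]))
    refine ⟨j - 1, fun h1 => ?_, ?_⟩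
    · have := orderOf_dvd_of_pow_eq_one h1
      rw [hj, Nat.pow_dvd_pow_iff_le_right (by norm_num)] at this
      omega
    · rw [← pow_add, ← two_mul, ← pow_succ', show j - 1 + 1 = j by omega, ← hj, pow_orderOf_eq_one]
  let ui : I := ⟨⟨_, (P : Subgroup G).pow_mem hy (2 ^ i)⟩, Subtype.ext hu.2,
    fun h => hu.1 (congrArg Subtype.val h)⟩
  let nN : N := ⟨n, hn.2⟩
  have hfu : φ nN ui = ui := by
    refine Subtype.ext (Subtype.ext ?_)
    show n * y ^ 2 ^ i * n⁻¹ = y ^ 2 ^ i
    rw [← conj_pow, Subgroup.mem_centralizer_singleton_iff.1 hn.1, mul_inv_cancel_right]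
  have h3 : (φ nN) ^ 3 = 1 := by
    have := pow_card_eq_one' (x := (⟨φ nN, ⟨nN, rfl⟩⟩ : φ.range))
    rw [← hidx, h] at this
    exact congrArg Subtype.val this
  have hone : φ nN = 1 := by
    ext x
    by_contra hx
    set σ := φ nN with hσ
    have hinj := σ.injective
    have hx' : σ x ≠ x := fun h => hx (by rw [h]; rfl)
    have hσ3 : σ (σ (σ x)) = x := by
      have := congrArg (fun τ : Equiv.Perm I => τ x) h3
      simpa [pow_succ, Equiv.Perm.mul_apply] using this
    have hxu : x ≠ ui := fun h => hx' (by rw [h, hfu])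
    have hxu1 : σ x ≠ ui := fun h => hxu (hinj (h.trans hfu.symm))
    have hxu2 : σ (σ x) ≠ ui := fun h => hxu1 (hinj (h.trans hfu.symm))
    have h12 : σ (σ x) ≠ σ x := fun h => hx' (hinj h)
    have h02 : σ (σ x) ≠ x := fun h => hx' (by
      calc σ x = σ (σ (σ x)) := by rw [h]
        _ = x := hσ3)
    letI := Fintype.ofFinite I
    have h4 : ({ui, x, σ x, σ (σ x)} : Finset I).card = 4 := by
      rw [Finset.card_insert_of_notMem, Finset.card_insert_of_notMem, Finset.card_pair h12.symm]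
      · simp [hx'.symm, h02.symm]
      · simp [hxu.symm, hxu1.symm, hxu2.symm]
    have := Finset.card_le_univ ({ui, x, σ x, σ (σ x)} : Finset I)
    rw [← Nat.card_eq_fintype_card, h4] at this
    exact absurd (this.trans hI) (by norm_num)
  have : nN ∈ φ.ker := hone
  rwa [hker, Subgroup.mem_subgroupOf] at this

/-- The block relations give a non-principal linear character trivial on `P`. -/
theorem exists_normal_ne_top (hm : 2 ≤ m) (h : BlocksChar.IndexThree P) :
    ∃ K : Subgroup G, K.Normal ∧ (P : Subgroup G) ≤ K ∧ K ≠ ⊤ := by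
  classical
  have hp : Fact (Nat.Prime 2) := ⟨Nat.prime_two⟩
  letI := Fintype.ofFinite G
  obtain ⟨M, hM⟩ := BlkChar.exists_isPModular 2 Nat.prime_two
  haveI : M.IsPrime := hM.2.1.isPrime
  haveI : Finite (↥(P : Subgroup G) →* ℂˣ) := Char.monoidHom_complex_finite
  letI := Fintype.ofFinite (↥(P : Subgroup G) →* ℂˣ)
  haveI : Finite (IrrCharacter G) := CharInd.finite_irrCharacter
  letI := Fintype.ofFinite (IrrCharacter G)
  letI : Fintype (principalBlock M G) := Fintype.ofFinite _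
  letI := Fintype.ofFinite (P : Subgroup G)
  have hq16 : 16 ∣ Nat.card P := by
    rw [card_sylow P e, ← pow_add, show (16 : ℕ) = 2 ^ 4 by norm_num]
    exact pow_dvd_pow 2 (by omega)
  have hq : 4 < Nat.card P := by
    have := Nat.le_of_dvd Nat.card_pos hq16
    omega
  obtain ⟨K, s, f, ε, o, ho, hoK, hKcard, hso, hspm, hεpm, hev, heq, -, hcard⟩ :=
    h.exists_decomp hM hq
  obtain ⟨t0, ht0⟩ := exists_prime_orderOf_dvd_card' (G := (P : Subgroup G)) 2
    (dvd_trans (by norm_num) hq16)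
  have ht : orderOf (t0 : G) = 2 := by rw [Subgroup.orderOf_coe, ht0]
  have htne : t0 ≠ 1 := by rintro rfl; simp at ht0
  obtain ⟨ψ₀, hψ₀, hψW⟩ := h.exists_linear hq hcard ht
  have hψt : ∀ ψ : ↥(P : Subgroup G) →* ℂˣ, BlocksChar.ConjLin P ψ₀ ψ → (ψ t0 : ℂ) = 1 := by
    rintro ψ ⟨n, hn, hnψ⟩
    let w : ↥(P : Subgroup G) := ⟨n⁻¹ * t0 * n, (Subgroup.mem_normalizer_iff''.1 hn (t0 : G)).1 t0.2⟩
    rw [hnψ w t0 (by show (t0 : G) = n * (n⁻¹ * t0 * n) * n⁻¹; group)]
    have hw : w⁻¹ ∈ BlocksChar.conjSpan P (t0 : G) := inv_mem (Subgroup.subset_closure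
      (show IsConj (t0 : G) (w : G) from isConj_iff.2 ⟨n⁻¹, by simp [w]⟩))
    simpa using hψW _ hw
  choose x hx using fun χ : IrrCharacter G => BlocksChar.exists_int_of_orderOf_two χ ht
  obtain ⟨-, hr3⟩ := h.sum_involution_eq_zero hM ht hψW x hx
  obtain ⟨he4K, he4v, hs4, hz4⟩ := hev ψ₀ hψ₀
  obtain ⟨x₂, x₃, hne23, hKeq⟩ := Finset.card_eq_two.1
    (show (K.erase o).card = 2 by rw [Finset.card_erase_of_mem hoK, hKcard])
  obtain ⟨hx2o, hx2K⟩ :=
    Finset.mem_erase.1 (hKeq ▸ Finset.mem_insert_self _ _ : x₂ ∈ K.erase o)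
  obtain ⟨-, hx3K⟩ := Finset.mem_erase.1
    (hKeq ▸ Finset.mem_insert_of_mem (Finset.mem_singleton_self _) : x₃ ∈ K.erase o)
  have hfour : ∀ F : principalBlock M G → ℂ,
      ∑ χ : principalBlock M G, (BlocksChar.oneSubInt P ψ₀ χ : ℂ) * F χ =
      F o + ((s x₂ : ℂ) * F x₂ + (s x₃ : ℂ) * F x₃) + (ε : ℂ) * F (f ψ₀) := by
    intro F
    rw [← Finset.sum_subset (Finset.subset_univ (insert (f ψ₀) K)) (fun χ _ hχ => by
        simp only [Finset.mem_insert, not_or] at hχ
        rw [hz4 χ hχ.2 hχ.1]; simp),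
      Finset.sum_insert he4K, he4v, ← Finset.add_sum_erase _ _ hoK, hKeq, Finset.sum_pair hne23,
      hs4 o hoK, hs4 x₂ hx2K, hs4 x₃ hx3K, hso]
    push_cast
    ring
  have hvK : ∀ χ ∈ K, ∀ y : ↥(P : Subgroup G), y ≠ 1 →
      ((χ : IrrCharacter G) : G → ℂ) y = (s χ : ℂ) := by
    intro χ hχ y hy
    rw [h.apply_eq_neg_sum _ hy,
      Finset.sum_congr rfl (g := fun ψ : ↥(P : Subgroup G) →* ℂˣ =>
        (s χ : ℂ) * (ψ y : ℂ) - if ψ = 1 then (s χ : ℂ) else 0) (fun ψ _ => by
          split_ifs with h1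
          · rw [h1, BlocksChar.oneSubInt_one]; simp
          · rw [(hev ψ h1).2.2.1 χ hχ, sub_zero])]
    rw [Finset.sum_sub_distrib, ← Finset.mul_sum, BlocksChar.sum_linear h.commute_sub, if_neg hy]
    simp
  have hcong : ∀ χ ∈ K, (16 : ℤ) ∣
      s χ * (charDegree ((χ : IrrCharacter G) : G → ℂ) : ℤ) - 1 := by
    intro χ hχ
    obtain ⟨n, hn⟩ := Brauer.exists_sum_subgroup_eq_card_mul
      (Char.isCharacter_of_irr (χ : IrrCharacter G).2) (P : Subgroup G)
    rw [← Finset.add_sum_erase _ _ (Finset.mem_univ (1 : ↥(P : Subgroup G))),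
      Finset.sum_congr rfl (fun y hy => hvK χ hχ y (Finset.mem_erase.1 hy).1), Finset.sum_const,
      Finset.card_erase_of_mem (Finset.mem_univ _), Finset.card_univ, nsmul_eq_mul,
      ← Nat.card_eq_fintype_card, Subgroup.coe_one, ← BlocksChar.charDegree_eq,
      Nat.cast_sub (show 1 ≤ Nat.card (P : Subgroup G) from Nat.card_pos)] at hn
    have hz : (charDegree ((χ : IrrCharacter G) : G → ℂ) : ℤ) + ((Nat.card P : ℤ) - 1) * s χ =
        (Nat.card P : ℤ) * n := by
      apply Int.cast_injective (α := ℂ)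
      push_cast
      exact_mod_cast hn
    have hdvd : (16 : ℤ) ∣ (Nat.card P : ℤ) := by exact_mod_cast hq16
    have hss : s χ * s χ = 1 := by rcases hspm χ hχ with h | h <;> rw [h] <;> norm_num
    refine dvd_trans hdvd ⟨s χ * n - 1, ?_⟩
    linear_combination (s χ) * hz - ((Nat.card P : ℤ) - 1) * hss
  have hvf : ((f ψ₀ : IrrCharacter G) : G → ℂ) (t0 : G) = -3 * (ε : ℂ) := by
    rw [h.apply_eq_neg_sum _ htne,
      Finset.sum_congr rfl (g := fun ψ : ↥(P : Subgroup G) →* ℂˣ =>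
        if BlocksChar.ConjLin P ψ₀ ψ then (ε : ℂ) else 0) (fun ψ _ => by
          split_ifs with hrel
          · have h1 := BlocksChar.ConjLin.ne_one hrel hψ₀
            rw [(heq ψ₀ ψ hψ₀ h1).2 hrel, (hev ψ h1).2.1, hψt ψ hrel, mul_one]
          · rcases eq_or_ne ψ 1 with rfl | h1
            · rw [BlocksChar.oneSubInt_one]; simp
            · rw [(hev ψ h1).2.2.2 (f ψ₀) he4K (fun hh => hrel ((heq ψ₀ ψ hψ₀ h1).1 hh))]
              simp),
      ← Finset.sum_filter, Finset.sum_const, h.card_orbit hψ₀, nsmul_eq_mul]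
    push_cast
    ring
  have hss : ∀ χ ∈ K, (s χ : ℚ) * s χ = 1 := fun χ hχ => by
    rcases hspm χ hχ with h | h <;> rw [h] <;> norm_num
  have hεε : (ε : ℚ) * ε = 1 := by rcases hεpm with h | h <;> rw [h] <;> norm_num
  have hd0 : charDegree ((o : IrrCharacter G) : G → ℂ) = 1 := by
    rw [ho]; simp [Char.trivialIrr, charDegree]
  have hxo : x (o : IrrCharacter G) = 1 := by
    have := hx (o : IrrCharacter G)
    rw [ho] at this ⊢
    simp [Char.trivialIrr] at this
    exact_mod_cast this.symm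
  set d₂ := charDegree ((x₂ : IrrCharacter G) : G → ℂ) with hd₂
  set d₃ := charDegree ((x₃ : IrrCharacter G) : G → ℂ) with hd₃
  set d₄ := charDegree ((f ψ₀ : IrrCharacter G) : G → ℂ) with hd₄
  have q1 : 1 + (s x₂ * d₂ : ℤ) + s x₃ * d₃ = -(ε * d₄) := by
    have hh := hfour fun χ => (charDegree ((χ : IrrCharacter G) : G → ℂ) : ℂ)
    have h0 := congrArg (fun z : ℤ => (z : ℂ)) (h.sum_degree_eq_zero hM ψ₀)
    push_cast at h0
    rw [h0, hd0] at hh
    apply Int.cast_injective (α := ℂ)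
    push_cast at hh ⊢
    linear_combination -hh
  have hxv : ∀ χ ∈ K, (x (χ : IrrCharacter G) : ℂ) = (s χ : ℂ) := fun χ hχ => by
    rw [← hx, hvK χ hχ t0 htne]
  have hxf : (x (f ψ₀ : IrrCharacter G) : ℂ) = -3 * (ε : ℂ) := by rw [← hx, hvf]
  have q3 : (1 : ℚ) + (s x₂ : ℚ) / d₂ + (s x₃ : ℚ) / d₃ + 9 * (ε : ℚ) / d₄ = 0 := by
    rw [← finsum_set_coe_eq_finsum_mem, finsum_eq_sum_of_fintype] at hr3
    have hh := hfour fun χ => (x (χ : IrrCharacter G) : ℂ) ^ 2 /
      (charDegree ((χ : IrrCharacter G) : G → ℂ) : ℂ)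
    rw [hr3, hxo, hd0, hxv _ hx2K, hxv _ hx3K, hxf] at hh
    apply Rat.cast_injective (α := ℂ)
    have c2 : (s x₂ : ℂ) * s x₂ = 1 := by exact_mod_cast hss x₂ hx2K
    have c3 : (s x₃ : ℂ) * s x₃ = 1 := by exact_mod_cast hss x₃ hx3K
    have c4 : (ε : ℂ) * ε = 1 := by exact_mod_cast hεε
    push_cast at hh ⊢
    linear_combination -hh - ((s x₂ : ℂ) / d₂) * c2 - ((s x₃ : ℂ) / d₃) * c3
      - 9 * ((ε : ℂ) / d₄) * c4
  have hdp : ∀ χ : IrrCharacter G, (charDegree (χ : G → ℂ) : ℚ) ≠ 0 := fun χ =>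
    Nat.cast_ne_zero.2 (BlocksChar.charDegree_pos χ).ne'
  have q3' : -((ε : ℤ) * d₄) * ((s x₂ * d₂) * (s x₃ * d₃) + s x₂ * d₂ + s x₃ * d₃) =
      9 * ((s x₂ * d₂) * (s x₃ * d₃)) := by
    apply Int.cast_injective (α := ℚ)
    have hmul : (d₂ : ℚ) * d₃ * d₄ + s x₂ * d₃ * d₄ + s x₃ * d₂ * d₄ + 9 * ε * d₂ * d₃ = 0 := by
      have e2 : (d₂ : ℚ) ≠ 0 := hdp _
      have e3 : (d₃ : ℚ) ≠ 0 := hdp _
      have e4 : (d₄ : ℚ) ≠ 0 := hdp _
      field_simp at q3
      linear_combination q3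
    push_cast
    linear_combination (-((ε : ℚ) * s x₂ * s x₃)) * hmul
      + (9 * (d₂ : ℚ) * d₃ * s x₂ * s x₃) * hεε
      + ((ε : ℚ) * d₃ * d₄ * s x₃) * (hss x₂ hx2K) + ((ε : ℚ) * d₂ * d₄ * s x₂) * (hss x₃ hx3K)
  obtain ⟨hA, -⟩ := degree_eq_one (hcong x₂ hx2K) (hcong x₃ hx3K) q1 q3'
  rw [← hd₂] at hA
  have hs1 : s x₂ = 1 := by
    rcases hspm x₂ hx2K with hs | hs
    · exact hs
    · rw [hs] at hA; omega
  have hd1 : charDegree ((x₂ : IrrCharacter G) : G → ℂ) = 1 := by
    rw [hs1, one_mul] at hA; exact_mod_cast hA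
  have h11 : ((x₂ : IrrCharacter G) : G → ℂ) 1 = 1 := by
    rw [← BlocksChar.charDegree_eq, hd1, Nat.cast_one]
  obtain ⟨L, hLn, hL⟩ := CharInd.exists_charKer (Char.isCharacter_of_irr (x₂ : IrrCharacter G).2)
  refine ⟨L, hLn, fun y hy => (hL y).2 ?_, fun htop => ?_⟩
  · rcases eq_or_ne y 1 with rfl | hy1
    · rfl
    · have := hvK x₂ hx2K ⟨y, hy⟩ fun hh => hy1 (congrArg Subtype.val hh)
      rw [h11, this, hs1, Int.cast_one]
  · refine hx2o (Subtype.ext (Subtype.ext (funext fun g => ?_)))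
    rw [(hL g).1 (htop ▸ Subgroup.mem_top g), h11, ho]
    simp [Char.trivialIrr]

end Cfsg.Agent.Invol.Homocyclic
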