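import Cfsg.Agent.FusionSys.MetacyclicTwo
import Cfsg.Agent.FusionAlperin.ConstrainedGroup
import Cfsg.Agent.S1896
import Cfsg.Agent.S0949
import Cfsg.Agent.Cores.Pi

/-!
# Metacyclic Sylow 2-subgroups with a cyclic quotient of order at least four

Given solvability of groups of odd order, a group with such a Sylow 2-subgroup is solvable: either
the Sylow normaliser controls fusion and acts by a 2-group, giving a normal 2-complement, or the
Sylow 2-subgroup is homocyclic abelian and Brauer's theorem applies.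
-/

set_option autoImplicit false

open Cfsg

namespace Cfsg.Agent.Invol.Metacyclic

universe u

section Quotient

variable {S : Type u} [Group S] [Finite S] (N : Subgroup S) [N.Normal] [IsCyclic (S ⧸ N)]

omit [Finite S] in
theorem comm_quot (a b : S ⧸ N) : a * b = b * a := by
  letI := IsCyclic.commGroup (α := S ⧸ N)
  exact mul_comm a b

theorem card_le_two_of_generators (T : Set S) (hT : Subgroup.closure T = ⊤)
    (h2 : ∀ x ∈ T, QuotientGroup.mk' N x * QuotientGroup.mk' N x = 1) :
    Nat.card (S ⧸ N) ≤ 2 := by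
  obtain ⟨g, hg⟩ := IsCyclic.exists_generator (α := S ⧸ N)
  obtain ⟨x, rfl⟩ := QuotientGroup.mk'_surjective N g
  rw [← orderOf_eq_card_of_forall_mem_zpowers hg]
  refine Nat.le_of_dvd (by norm_num) (orderOf_dvd_of_pow_eq_one ?_)
  clear hg
  induction (show x ∈ Subgroup.closure T from hT ▸ Subgroup.mem_top x)
    using Subgroup.closure_induction with
  | mem y hy => rw [pow_two]; exact h2 y hy
  | one => simp
  | mul a b _ _ ha hb =>
    rw [map_mul, (show Commute (QuotientGroup.mk' N a) (QuotientGroup.mk' N b) from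
      comm_quot N _ _).mul_pow, ha, hb, one_mul]
  | inv a _ ha => rw [map_inv, inv_pow, ha, inv_one]

theorem not_dihedral (hQ : 2 < Nat.card (S ⧸ N)) :
    ¬ ∃ m : ℕ, Nonempty (S ≃* DihedralGroup m) := by
  rintro ⟨m, ⟨e⟩⟩
  have := card_le_two_of_generators N (Set.range fun i : ZMod m => e.symm (DihedralGroup.sr i))
    (eq_top_iff.2 fun x _ => ?_) ?_
  · omega
  · obtain ⟨y, rfl⟩ := e.symm.surjective x
    cases y with
    | sr i => exact Subgroup.subset_closure ⟨i, rfl⟩
    | r i =>
      have h : DihedralGroup.r i = DihedralGroup.sr (0 : ZMod m) * DihedralGroup.sr i := by simp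
      rw [h, map_mul]
      exact Subgroup.mul_mem _ (Subgroup.subset_closure ⟨0, rfl⟩) (Subgroup.subset_closure ⟨i, rfl⟩)
  · rintro _ ⟨i, rfl⟩
    rw [← map_mul, ← map_mul, DihedralGroup.sr_mul_self, map_one, map_one]

theorem not_quaternion (hS : IsPGroup 2 S) (hnc : ¬ IsMulCommutative S)
    (hQ : 2 < Nat.card (S ⧸ N)) : ¬ ∃ m : ℕ, Nonempty (S ≃* QuaternionGroup m) := by
  rintro ⟨m, ⟨e⟩⟩
  haveI := Finite.of_equiv _ e.toEquiv
  obtain ⟨k, hk⟩ := IsPGroup.iff_card.1 hS
  rcases Nat.eq_zero_or_pos m with rfl | hm0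
  · haveI : Infinite (QuaternionGroup 0) := Infinite.of_injective
      (fun i : ℤ => (QuaternionGroup.a i : QuaternionGroup 0))
      fun a b h => QuaternionGroup.a.inj h
    exact not_finite (QuaternionGroup 0)
  haveI : NeZero m := ⟨hm0.ne'⟩
  rw [Nat.card_congr e.toEquiv, TwoGroups.nat_card_quaternionGroup] at hk
  obtain ⟨j, -, hj⟩ := (Nat.dvd_prime_pow Nat.prime_two).1 (hk ▸ dvd_mul_left m 4)
  rcases Nat.eq_zero_or_pos j with rfl | hj0
  · subst hj
    refine hnc ⟨⟨fun a b => e.injective ?_⟩⟩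
    rw [map_mul, map_mul]
    generalize e a = u
    generalize e b = v
    revert u v
    decide
  obtain ⟨l, hl⟩ : Even m := hj ▸ (Nat.even_pow.2 ⟨even_two, hj0.ne'⟩)
  set q := (QuotientGroup.mk' N).comp e.symm.toMonoidHom with hq
  have hqa : ∀ i : ZMod (2 * m), q (QuaternionGroup.a i) ^ 2 = 1 := by
    intro i
    have h : QuaternionGroup.a i = QuaternionGroup.xa (0 : ZMod (2 * m)) *
        (QuaternionGroup.xa (i - (m : ZMod (2 * m)))) := by simp
    rw [h, map_mul, (show Commute (q _) (q _) from comm_quot N _ _).mul_pow, ← map_pow, ← map_pow,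
      QuaternionGroup.xa_sq, QuaternionGroup.xa_sq, ← map_mul, QuaternionGroup.a_mul_a]
    have : (m : ZMod (2 * m)) + m = 0 := by
      rw [← Nat.cast_add, ← two_mul, ZMod.natCast_self]
    rw [this, ← QuaternionGroup.one_def, map_one]
  have hqm : q (QuaternionGroup.a (m : ZMod (2 * m))) = 1 := by
    have h : QuaternionGroup.a (m : ZMod (2 * m)) =
        (QuaternionGroup.a (l : ZMod (2 * m))) ^ 2 := by
      rw [pow_two, QuaternionGroup.a_mul_a, ← Nat.cast_add, ← hl]
    rw [h, map_pow, hqa]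
  have := card_le_two_of_generators N (Set.range e.symm) (eq_top_iff.2 fun x _ =>
    Subgroup.subset_closure (e.symm.surjective x)) ?_
  · omega
  · rintro _ ⟨y, rfl⟩
    cases y with
    | a i => rw [← pow_two]; exact hqa i
    | xa i =>
      have : q (QuaternionGroup.xa i) * q (QuaternionGroup.xa i) = 1 := by
        rw [← pow_two, ← map_pow, QuaternionGroup.xa_sq, hqm]
      exact this

theorem not_quasiDihedral (hQ : 2 < Nat.card (S ⧸ N)) : ¬ Cfsg.IsQuasiDihedral S := by
  rintro ⟨n, hn, hcard, x, y, hx, hy, hxy⟩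
  have hpow : 2 ^ (n - 1) - 1 = 1 + 2 * (2 ^ (n - 2) - 1) := by
    have : 1 ≤ 2 ^ (n - 2) := Nat.one_le_two_pow
    rw [show 2 ^ (n - 1) = 2 * 2 ^ (n - 2) by
      rw [← pow_succ']; congr 1; omega]
    omega
  have hne : ¬ 2 ^ n ∣ 2 * (2 ^ (n - 2) - 1) := by
    intro hd
    have h1 : 2 ^ (n - 2) < 2 ^ n := Nat.pow_lt_pow_right (by norm_num) (by omega)
    have h2 : 2 ≤ 2 ^ (n - 2) := Nat.le_self_pow (by omega) 2
    have h3 : 2 ^ n = 4 * 2 ^ (n - 2) := by
      rw [show (4 : ℕ) = 2 ^ 2 by norm_num, ← pow_add]; congr 1; omega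
    have := Nat.le_of_dvd (by omega) hd
    omega
  have hynot : y ∉ Subgroup.zpowers x := by
    rintro ⟨i, rfl⟩
    simp only at hxy
    rw [(Commute.refl x).zpow_left i |>.eq, mul_inv_cancel_right, hpow, pow_add, pow_one] at hxy
    exact hne (hx ▸ orderOf_dvd_of_pow_eq_one (left_eq_mul.1 hxy))
  set q := QuotientGroup.mk' N
  have hqy : q y * q y = 1 := by
    rw [← map_mul, ← pow_two, ← hy, pow_orderOf_eq_one, map_one]
  have hqx : q x * q x = 1 := by
    have h1 : q x = q x ^ (2 ^ (n - 1) - 1) := by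
      have := congrArg q hxy
      rw [map_pow, map_mul, map_mul, map_inv, comm_quot N (q y) (q x), mul_inv_cancel_right] at this
      exact this
    rw [hpow, pow_add, pow_one, left_eq_mul] at h1
    have hd1 := orderOf_dvd_of_pow_eq_one h1
    obtain ⟨k, -, hk⟩ := (Nat.dvd_prime_pow Nat.prime_two).1 (hx ▸ orderOf_map_dvd q x)
    rw [hk] at hd1
    have hk1 : k ≤ 1 := by
      by_contra hk2
      have h4 : 4 ∣ 2 * (2 ^ (n - 2) - 1) := (pow_dvd_pow 2 (show 2 ≤ k by omega)).trans hd1
      have h2 : 2 ∣ 2 ^ (n - 2) := dvd_pow_self 2 (by omega)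
      have h5 : 1 ≤ 2 ^ (n - 2) := Nat.one_le_two_pow
      omega
    rw [← pow_two]
    refine orderOf_dvd_iff_pow_eq_one.1 (hk ▸ ?_)
    simpa using pow_dvd_pow 2 hk1
  have htop : Subgroup.closure ({x, y} : Set S) = ⊤ := by
    set H := Subgroup.closure ({x, y} : Set S)
    have hle : Subgroup.zpowers x ≤ H := Subgroup.zpowers_le.2 (Subgroup.subset_closure (by simp))
    obtain ⟨c, hc⟩ := Subgroup.card_dvd_of_le hle
    rw [Nat.card_zpowers, hx] at hc
    have hc1 : c ≠ 1 := by
      rintro rfl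
      refine hynot ((Subgroup.eq_of_le_of_card_ge hle ?_).ge (Subgroup.subset_closure (by simp)))
      rw [hc, Nat.card_zpowers, hx, mul_one]
    have hc0 : c ≠ 0 := by
      rintro rfl
      rw [mul_zero] at hc
      exact Nat.card_pos.ne' hc
    have hd : 2 ^ n * c ∣ 2 ^ n * 2 := by rw [← hc, ← pow_succ, ← hcard]; exact H.card_subgroup_dvd_card
    have hc2 := Nat.le_of_dvd (by norm_num) (Nat.dvd_of_mul_dvd_mul_left (by positivity) hd)
    refine Subgroup.eq_top_of_card_eq _ ?_
    rw [hc, hcard, pow_succ, show c = 2 by omega]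
  have := card_le_two_of_generators N {x, y} htop (by rintro z (rfl | rfl) <;> assumption)
  omega

end Quotient

variable {G : Type u} [Group G] [Finite G] (S : Sylow 2 G)

/-- Fusion controlled by a normaliser whose action is a 2-group gives a normal 2-complement. -/
theorem hasNormalPComplement_of_aut
    (hctl : Transfer.ControlsFusion (Subgroup.normalizer ((S : Subgroup G) : Set G)) S)
    (haut : IsPGroup 2 (MulAut (S : Subgroup G))) : Cfsg.HasNormalPComplement 2 G := by
  haveI : Fact (Nat.Prime 2) := ⟨Nat.prime_two⟩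
  refine Transfer.hasNormalPComplement_of_controlsFusion S fun x hx g hg => ?_
  obtain ⟨n, hn, he⟩ := hctl x hx g hg
  set a := Element.pPart 2 n with ha
  set b := Element.pComplPart 2 n with hb
  obtain ⟨i, hi⟩ := Subgroup.mem_zpowers_iff.1 (Element.pPart_mem_zpowers 2 n)
  obtain ⟨j, hj⟩ := Subgroup.mem_zpowers_iff.1 (Element.pComplPart_mem_zpowers 2 n)
  have haN : a ∈ Subgroup.normalizer ((S : Subgroup G) : Set G) := by
    rw [ha, ← hi]; exact Subgroup.zpow_mem _ hn i
  have hbN : b ∈ Subgroup.normalizer ((S : Subgroup G) : Set G) := by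
    rw [hb, ← hj]; exact Subgroup.zpow_mem _ hn j
  have haS : a ∈ (S : Subgroup G) := by
    have h1 : IsPGroup 2 (Subgroup.zpowers a) :=
      IsPGroup.of_card (by rw [Nat.card_zpowers, ha, Element.orderOf_pPart_eq_pow Nat.prime_two])
    exact ((h1.inf_normalizer_sylow S).le ⟨Subgroup.mem_zpowers a, haN⟩).2
  have hco : (orderOf b).Coprime 2 :=
    (Element.coprime_orderOf_pComplPart Nat.prime_two n).symm.symm
  set σ := (S : Subgroup G).normalizerMonoidHom ⟨b, hbN⟩ with hσ
  have hσ1 : σ = 1 := by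
    obtain ⟨k, hk⟩ := haut σ
    obtain ⟨l, -, hl⟩ := (Nat.dvd_prime_pow Nat.prime_two).1 (orderOf_dvd_of_pow_eq_one hk)
    have h1 : orderOf σ ∣ orderOf b := by
      have := orderOf_map_dvd ((S : Subgroup G).normalizerMonoidHom) ⟨b, hbN⟩
      rwa [Subgroup.orderOf_mk] at this
    have h2 : (orderOf σ).Coprime 2 := hco.coprime_dvd_left h1
    rw [hl] at h2
    rcases Nat.eq_zero_or_pos l with rfl | hl0
    · exact orderOf_eq_one_iff.1 (by rw [hl, pow_zero])
    · exact absurd ((Nat.coprime_pow_left_iff hl0 2 2).1 h2) (by decide)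
  refine ⟨a, haS, ?_⟩
  have hbx : b * x * b⁻¹ = x := congrArg (fun τ : MulAut (S : Subgroup G) => ((τ ⟨x, hx⟩ : (S : Subgroup G)) : G)) hσ1
  rw [← he]
  conv_rhs => rw [← Element.pPart_mul_pComplPart 2 n, ← ha, ← hb]
  calc a * x * a⁻¹ = a * (b * x * b⁻¹) * a⁻¹ := by rw [hbx]
    _ = a * b * x * (a * b)⁻¹ := by group

theorem isSolvable_of_complement
    (hFT : ∀ (H : Type u) [Group H] [Finite H], Odd (Nat.card H) → Group.IsSolvable H)
    (h : Cfsg.HasNormalPComplement 2 G) : Group.IsSolvable G := by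
  haveI : Fact (Nat.Prime 2) := ⟨Nat.prime_two⟩
  obtain ⟨Q, K, hK, hKQ⟩ := h
  haveI := hK
  haveI : Group.IsSolvable K := hFT _ (by
    rw [← hKQ.index_eq_card]
    exact Nat.odd_iff.2 (Nat.two_dvd_ne_zero.1 Q.not_dvd_index))
  haveI : Group.IsNilpotent (G ⧸ K) := (IsPGroup.of_card (G := G ⧸ K) (n := (Nat.card G).factorization 2) (by
    rw [← Subgroup.index_eq_card, hKQ.symm.index_eq_card]
    exact Q.card_eq_multiplicity)).isNilpotent
  haveI : Group.IsSolvable (G ⧸ K) := inferInstance
  exact Group.isSolvable_of_ker_le_range K.subtype (QuotientGroup.mk' K)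
    (by rw [QuotientGroup.ker_mk', Subgroup.range_subtype])

/-- Solvability in the homocyclic case. -/
theorem isSolvable_of_homocyclic
    (hFT : ∀ (H : Type u) [Group H] [Finite H], Odd (Nat.card H) → Group.IsSolvable H)
    {n : ℕ} (hn : 2 ≤ n)
    (e : (S : Subgroup G) ≃* Multiplicative (ZMod (2 ^ n)) × Multiplicative (ZMod (2 ^ n))) :
    Group.IsSolvable G := by
  haveI : Fact (Nat.Prime 2) := ⟨Nat.prime_two⟩
  set O := pPrimeCore 2 G with hO
  haveI : O.Normal := by rw [hO]; infer_instance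
  have hodd : ¬ 2 ∣ Nat.card O := Cores.not_dvd_card_pPrimeCore
  let π := QuotientGroup.mk' O
  let P : Sylow 2 (G ⧸ O) := S.mapSurjective (QuotientGroup.mk'_surjective O)
  have hinj : Function.Injective (π.comp (S : Subgroup G).subtype) := by
    rw [injective_iff_map_eq_one]
    intro x hx
    obtain ⟨k, hk⟩ := IsPGroup.iff_orderOf.1 S.isPGroup' x
    have hxO : (x : G) ∈ O := (QuotientGroup.eq_one_iff _).1 hx
    have hd := Subgroup.orderOf_dvd_natCard O hxO
    rw [Subgroup.orderOf_coe, hk] at hd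
    rcases Nat.eq_zero_or_pos k with rfl | hk0
    · exact orderOf_eq_one_iff.1 (by rw [hk, pow_zero])
    · exact absurd ((dvd_pow_self 2 hk0.ne').trans hd) hodd
  have hrange : (π.comp (S : Subgroup G).subtype).range = (P : Subgroup (G ⧸ O)) := by
    rw [MonoidHom.range_comp, Subgroup.range_subtype]
    rfl
  let eP : (P : Subgroup (G ⧸ O)) ≃* Multiplicative (ZMod (2 ^ n) × ZMod (2 ^ n)) :=
    ((MulEquiv.subgroupCongr hrange).symm.trans
      ((MonoidHom.ofInjective hinj).symm.trans e)).trans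
      (MulEquiv.prodMultiplicative _ _).symm
  haveI hPn := S0949.normal_aux hn _ (G ⧸ O) rfl P eP Cores.pPrimeCore_quotient_pPrimeCore_eq_bot
  haveI : Group.IsNilpotent (P : Subgroup (G ⧸ O)) := P.isPGroup'.isNilpotent
  haveI : Group.IsSolvable (P : Subgroup (G ⧸ O)) := inferInstance
  haveI : Group.IsSolvable ((G ⧸ O) ⧸ (P : Subgroup (G ⧸ O))) := hFT _ (by
    rw [← Subgroup.index_eq_card]
    exact Nat.odd_iff.2 (Nat.two_dvd_ne_zero.1 P.not_dvd_index))
  haveI : Group.IsSolvable (G ⧸ O) := Group.isSolvable_of_ker_le_range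
    (P : Subgroup (G ⧸ O)).subtype (QuotientGroup.mk' (P : Subgroup (G ⧸ O)))
    (by rw [QuotientGroup.ker_mk', Subgroup.range_subtype])
  haveI : Group.IsSolvable O := hFT _ (Nat.odd_iff.2 (Nat.two_dvd_ne_zero.1 hodd))
  exact Group.isSolvable_of_ker_le_range O.subtype π
    (by rw [QuotientGroup.ker_mk', Subgroup.range_subtype])

/-- The main result, from solvability of groups of odd order. -/
theorem isSolvable
    (hFT : ∀ (H : Type u) [Group H] [Finite H], Odd (Nat.card H) → Group.IsSolvable H)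
    (N : Subgroup (S : Subgroup G)) [N.Normal] [IsCyclic N] [IsCyclic ((S : Subgroup G) ⧸ N)]
    (hQ : 2 < Nat.card ((S : Subgroup G) ⧸ N)) : Group.IsSolvable G := by
  haveI : Fact (Nat.Prime 2) := ⟨Nat.prime_two⟩
  have hm : Cfsg.IsMetacyclic (S : Subgroup G) := ⟨N, inferInstance, inferInstance, inferInstance⟩
  by_cases hab : IsMulCommutative (S : Subgroup G)
  · by_cases haut : IsPGroup 2 (MulAut (S : Subgroup G))
    · exact isSolvable_of_complement hFT (hasNormalPComplement_of_aut S
        (Transfer.controlsFusion_normalizer_of_abelian S hab) haut)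
    rcases S1896.result S.isPGroup' hm haut with ⟨⟨e⟩⟩ | ⟨n, ⟨e⟩⟩
    · exfalso
      have h : QuaternionGroup.a (1 : ZMod (2 * 2)) * QuaternionGroup.xa 0 =
          QuaternionGroup.xa 0 * QuaternionGroup.a 1 := e.symm.injective (by
        rw [map_mul, map_mul]; exact hab.is_comm.comm _ _)
      exact absurd h (by decide)
    refine isSolvable_of_homocyclic S hFT (n := n) ?_ e
    by_contra hn
    have h2 : ∀ x : (S : Subgroup G), x * x = 1 := by
      intro x
      apply e.injective
      rw [map_mul, map_one]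
      generalize e x = u
      have hn' : n = 0 ∨ n = 1 := by omega
      rcases hn' with rfl | rfl <;> revert u <;> decide
    have := card_le_two_of_generators N Set.univ Subgroup.closure_univ (fun x _ => by
      rw [← map_mul, h2, map_one])
    omega
  have hdh := not_dihedral N hQ
  have hqu := not_quaternion N S.isPGroup' hab hQ
  have hqd := not_quasiDihedral N hQ
  have hsc : (Cfsg.groupFusionSystem (S : Subgroup G)).StronglyClosed (S : Subgroup G) :=
    ⟨le_rfl, fun _ _ φ hφ x => hφ.2.1 x⟩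
  have hnorm := FusionSys.isNormal_of_metacyclic_two S.isPGroup'
    (FusionAlperin.groupSystem_saturated S) hsc hm hdh hqu hqd
  refine isSolvable_of_complement hFT (hasNormalPComplement_of_aut S (fun x hx g hg => ?_) ?_)
  · have hz : Subgroup.zpowers x ≤ (S : Subgroup G) := Subgroup.zpowers_le.2 hx
    have hφ : Cfsg.conjHom (Subgroup.zpowers x) g ∈
        (Cfsg.groupFusionSystem (S : Subgroup G)).Hom (Subgroup.zpowers x) :=
      FusionAlperin.conj_mem_hom S hz (by
        rintro _ ⟨k, rfl⟩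
        rw [← conj_zpow]
        exact Subgroup.zpow_mem _ hg k)
    obtain ⟨ψ, ⟨-, -, n, hn⟩, hagree, himg⟩ := hnorm.2 _ _ hφ
    have hnS : ∀ y ∈ (S : Subgroup G), n * y * n⁻¹ ∈ (S : Subgroup G) := fun y hy => by
      have h1 : ψ ⟨y, Subgroup.mem_sup_right hy⟩ ∈ (S : Subgroup G) :=
        himg.le ⟨⟨y, Subgroup.mem_sup_right hy⟩, hy, rfl⟩
      rwa [hn] at h1
    refine ⟨n, Subgroup.mem_normalizer_iff.2 fun y => ⟨hnS y, fun hy => ?_⟩, ?_⟩
    · have hsurj : Function.Surjective
          (fun w : (S : Subgroup G) => (⟨n * w * n⁻¹, hnS w w.2⟩ : (S : Subgroup G))) :=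
        Finite.surjective_of_injective fun a b h => by simpa using congrArg Subtype.val h
      obtain ⟨w, hw⟩ := hsurj ⟨_, hy⟩
      have : (w : G) = y := mul_left_cancel (mul_right_cancel (congrArg Subtype.val hw :))
      exact this ▸ w.2
    · have h1 := hagree ⟨x, Subgroup.mem_zpowers x⟩
      rw [hn] at h1
      exact h1
  · by_contra haut
    rcases S1896.result S.isPGroup' hm haut with ⟨⟨e⟩⟩ | ⟨n, ⟨e⟩⟩
    · exact hqu ⟨2, ⟨e⟩⟩
    · exact hab ⟨⟨fun a b => e.injective (by rw [map_mul, map_mul, mul_comm])⟩⟩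

end Cfsg.Agent.Invol.Metacyclic
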